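import Cfsg.Agent.Lib.McLRankThree.Defs

/-!
# The McLaughlin graph: automorphisms, orbits, rigidity and families

* `auts_ok`, `trees_ok`, `rounds_ok`, `sigmas_ok`, `local_ok`, `star_ok`, `rel_ok`
-/

set_option autoImplicit false
set_option maxHeartbeats 0

namespace Cfsg.Agent.McLRankThree

theorem auts_ok : auts.length = 3 ∧ autsInv.length = 3 ∧
    ((auts.zip autsInv).all fun x => autOK x.1 x.2) = true := by
  decide +kernel

theorem trees_ok : treeOK treeA [4] = true ∧ treeOK treeB [2] = true ∧
    ((List.range 275).all fun j => !(nbMask.testBit j) || j == 1 ||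
      if (mask 1).testBit j then (2 :: treeB.map Prod.fst).contains j
      else (4 :: treeA.map Prod.fst).contains j) = true := by
  decide +kernel

theorem rounds_ok : roundsOK rounds (2 ^ 0 ||| 2 ^ 1 ||| 2 ^ 4 ||| 2 ^ 2 ||| 2 ^ 3 ||| 2 ^ 6) =
    true := by
  decide +kernel

theorem sigmas_ok : sigmas.length = 3 ∧ sigmasInv.length = 3 ∧ famMasks.length = 3 ∧
    ((sigmas.zip (sigmasInv.zip famMasks)).all fun x => sigmaOK x.1 x.2.1 x.2.2) = true := by
  decide +kernel

theorem local_ok : mask 0 = nbMask ∧ bitCount nbMask = 112 ∧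
    bitCount (mask 1 &&& nbMask) = 30 ∧ bitCount (mask 1 &&& mask 4 &&& nbMask) = 10 ∧
    (mask 1).testBit 4 = false ∧
    ((List.range 275).all fun y => !((mask 1 &&& nbMask).testBit y) ||
      (bitCount (mask 1 &&& mask y &&& nbMask) == 2 && (List.range 275).all fun z =>
        !((mask 1 &&& mask y &&& nbMask).testBit z) || (List.range 275).all fun w =>
          !((mask 1 &&& mask y &&& nbMask).testBit w) || z == w || (mask z).testBit w)) = true := by
  decide +kernel

theorem star_ok : starMasks.length = 162 ∧ bitCount (starMask 0) = 56 ∧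
    ((List.range 275).all fun p => !((starMask 0).testBit p) ||
      bitCount (mask p &&& starMask 0) == 10) = true ∧
    (starMasks.zipIdx.all fun x => Nat.blt x.1 (2 ^ 275) &&
      bitCount (starMask 0 &&& x.1) ==
        if x.2 == 0 then 56 else if (mask 113).testBit (113 + x.2) then 20 else 32) = true := by
  decide +kernel

theorem rel_ok : (famMasks.all fun l => l.all fun m =>
    !([56, 20, 32].contains (bitCount (starMask 0 &&& m)))) = true := by
  decide +kernel

end Cfsg.Agent.McLRankThree
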