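import Cfsg.Agent.Lib.McLRankThree.Defs

/-!
# The McLaughlin graph: the search for hemisystems

* `search_ok`, `steps_ok`, `quads_ok`
-/

set_option autoImplicit false
set_option maxHeartbeats 0

namespace Cfsg.Agent.McLRankThree

theorem search_ok : dfs inFam searchSteps 0 = true := by decide +kernel

theorem steps_ok : stepsOK searchSteps 0 = true := by decide +kernel

theorem quads_ok : (quads.all fun q => q.length == 4 && decide q.Nodup && q.all fun a =>
    nbMask.testBit a && q.all fun b => a == b || (mask a).testBit b) = true := by
  decide +kernel

end Cfsg.Agent.McLRankThree
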