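import Cfsg.Agent.Lib.McLRankThree.Defs
import Cfsg.Agent.Lib.Leech.McLInvol.Generators

/-!
# The McLaughlin graph: checks on the vectors

* `vecs_ok`, `rows_ok`, `adjMasks_nodup`
-/

set_option autoImplicit false
set_option maxHeartbeats 0

namespace Cfsg.Agent.McLRankThree

open Leech Leech.McLInvol

theorem vecs_ok : vecs.length = 275 ∧ adjMasks.length = 275 ∧
    (vecs.all fun v => inLatL v && dotL v v == 32 && dotL v listF == 24 && dotL v listU == 16) =
      true := by
  decide +kernel

theorem rows_ok : ((vecs.zip adjMasks).all fun x => rowOK x.1 x.2 vecs 0) = true := by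
  decide +kernel

theorem adjMasks_nodup : adjMasks.Nodup := by decide +kernel

end Cfsg.Agent.McLRankThree
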