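import Cfsg.Agent.Lib.McLRankThree.Vectors
import Cfsg.Agent.Lib.McLRankThree.Data

/-!
# The McLaughlin graph: definitions for the checks

* `vecL`, `mask`, `starMask`, `famMask`, `allFam`
* `dfs` : the search for hemisystems
-/

set_option autoImplicit false

namespace Cfsg.Agent.McLRankThree

open Leech

/-- The vector of a point. -/
def vecL (i : ℕ) : List ℤ := vecs.getD i []

/-- The adjacency mask of a point. -/
def mask (i : ℕ) : ℕ := adjMasks.getD i 0

/-- The mask of the neighbours of `0`. -/
def nbMask : ℕ := 2 ^ 113 - 2

/-- The neighbours of a far point among the neighbours of `0`. -/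
def starMask (i : ℕ) : ℕ := mask (113 + i) &&& nbMask

/-- The first family. -/
def starMasks : List ℕ := (adjMasks.drop 113).map fun m => m &&& nbMask

/-- The four families. -/
def allFamilies : List (List ℕ) := starMasks :: famMasks

/-- A member of a family. -/
def famMask (k i : ℕ) : ℕ := (allFamilies.getD k []).getD i 0

/-- Membership of the four families. -/
def inFam (m : ℕ) : Bool := allFamilies.any fun l => l.any fun x => Nat.beq m x

/-- The set of a triple is not monochrome. -/
def notMono (m t : ℕ) : Bool := !(Nat.beq (m &&& t) 0) && !(Nat.beq (m &&& t) t)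

/-- The search. -/
def dfs (good : ℕ → Bool) : List (ℕ × List ℕ) → ℕ → Bool
  | [], m => good m
  | s :: r, m => (!(s.2.all (notMono m)) || dfs good r m) &&
      (!(s.2.all (notMono (m ||| 2 ^ s.1))) || dfs good r (m ||| 2 ^ s.1))

/-- Number of the bits below `275`. -/
def bitCount (m : ℕ) : ℕ := (List.range 275).countP fun i => m.testBit i

/-- The inner products of a row. -/
def rowOK (v : List ℤ) (m : ℕ) : List (List ℤ) → ℕ → Bool
  | [], _ => true
  | w :: r, j => ((dotL v w == 8) == m.testBit j) && rowOK v m r (j + 1)

end Cfsg.Agent.McLRankThree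

namespace Cfsg.Agent.McLRankThree

open Leech

/-- A table is a permutation with the given inverse, and preserves the adjacency. -/
def autOK (h h' : List ℕ) : Bool :=
  h.length == 275 && h'.length == 275 && (h.zipIdx.all fun x => Nat.blt x.1 275 && h'.getD x.1 0 == x.2) &&
    (h'.zipIdx.all fun x => Nat.blt x.1 275 && h.getD x.1 0 == x.2) && h.getD 0 1 == 0 &&
    h.getD 1 0 == 1 &&
    ((adjMasks.zip h).all fun x => h.zipIdx.all fun y =>
      (mask x.2).testBit y.1 == x.1.testBit y.2)

/-- A table is an automorphism of the neighbourhood of `0`, with the given inverse and images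
of the first family. -/
def sigmaOK (h h' fam : List ℕ) : Bool :=
  h.length == 275 && h'.length == 275 && fam.length == 162 &&
    (h.zipIdx.all fun x => Nat.blt x.1 275 && h'.getD x.1 0 == x.2) &&
    (h'.zipIdx.all fun x => Nat.blt x.1 275 && h.getD x.1 0 == x.2) &&
    (h.zipIdx.all fun x => nbMask.testBit x.1 == nbMask.testBit x.2) &&
    ((adjMasks.zip h).zipIdx.all fun x => !(nbMask.testBit x.2) || h.zipIdx.all fun y =>
      !(nbMask.testBit y.2) || (mask x.1.2).testBit y.1 == x.1.1.testBit y.2) &&
    ((starMasks.zip fam).all fun x => Nat.blt x.2 (2 ^ 275) && h.zipIdx.all fun y =>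
      x.2.testBit y.1 == x.1.testBit y.2)

/-- The edges of a tree are squares of the automorphisms. -/
def treeOK : List (ℕ × ℕ × ℕ) → List ℕ → Bool
  | [], _ => true
  | x :: r, seen => Nat.blt x.2.2 3 && seen.contains x.2.1 &&
      (auts.getD x.2.2 []).getD ((auts.getD x.2.2 []).getD x.2.1 0) 0 == x.1 &&
      treeOK r (x.1 :: seen)

/-- The members of a round are determined by the fixed points. -/
def roundsOK : List (List ℕ) → ℕ → Bool
  | [], pre => pre == 2 ^ 275 - 1
  | r :: rs, pre =>
      (r.all fun v => Nat.blt v 275 && adjMasks.zipIdx.all fun x => pre.testBit x.2 || x.2 == v ||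
        !(x.1 &&& pre == mask v &&& pre)) &&
      roundsOK rs (r.foldl (fun m v => m ||| 2 ^ v) pre)

/-- Each step extends the set of decided points by triples inside it. -/
def stepsOK : List (ℕ × List ℕ) → ℕ → Bool
  | [], S => S == nbMask
  | s :: r, S => nbMask.testBit s.1 && (s.2.all fun t => t &&& (S ||| 2 ^ s.1) == t) &&
      (s.2.all fun t => quads.any fun q => q.any fun a =>
        t == (q.filter fun b => b != a).foldl (fun m b => m ||| 2 ^ b) 0) &&
      stepsOK r (S ||| 2 ^ s.1)

end Cfsg.Agent.McLRankThree
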