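import Cfsg.Agent.Lib.McLRankThree.RankThree

/-!
# The isomorphism with the McLaughlin group

* `Setting.nonempty_mulEquiv` : a rank three group of this shape is `mclGroup`
-/

set_option autoImplicit false

open scoped Pointwise

namespace Cfsg.Agent.McLRankThree

open MulAction Leech

attribute [local irreducible] bitSet nb

theorem card_filter_adj (i : Pt) :
    (Finset.univ.filter fun j : Pt => adj i j = true).card = 112 := by
  obtain ⟨g, rfl⟩ := exists_mclGroup_map i
  rw [← card_nb]
  refine Finset.card_bij (fun j _ => (actHom g)⁻¹ j) (fun j hj => ?_)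
    (fun _ _ _ _ e => (actHom g)⁻¹.injective e)
    fun j hj => ⟨actHom g j, ?_, (actHom g).symm_apply_apply j⟩
  · rw [mem_nb, ← mcl_le_autG ⟨g, rfl⟩ 0 ((actHom g)⁻¹ j),
      show actHom g ((actHom g)⁻¹ j) = j from (actHom g).apply_symm_apply j]
    exact (Finset.mem_filter.1 hj).2
  · exact Finset.mem_filter.2 ⟨Finset.mem_univ _,
      (mcl_le_autG ⟨g, rfl⟩ 0 j).trans (mem_nb.1 hj)⟩

theorem card_far_adj (i : Fin 162) :
    (Finset.univ.filter fun j : Fin 162 => adj (farPt i) (farPt j) = true).card = 56 := by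
  classical
  have hz : adj (farPt i) 0 = false := by
    rw [adj_comm]
    exact Bool.eq_false_iff.2 fun h => (farPt_spec i).2 (mem_nb.2 h)
  have e : (Finset.univ.filter fun j : Pt => adj (farPt i) j = true) =
      starSet i ∪ (Finset.univ.filter fun j : Fin 162 => adj (farPt i) (farPt j) = true).image farPt := by
    ext j
    simp only [Finset.mem_filter, Finset.mem_univ, true_and, Finset.mem_union, Finset.mem_image,
      starSet]
    refine ⟨fun h => ?_, ?_⟩
    · by_cases hn : j ∈ nb
      · exact Or.inl ⟨hn, h⟩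
      · obtain ⟨k, rfl⟩ := exists_farPt (x := j) (by rintro rfl; simp [hz] at h) hn
        exact Or.inr ⟨k, h, rfl⟩
    · rintro (⟨-, h⟩ | ⟨k, h, rfl⟩) <;> exact h
  have hinj : Function.Injective farPt := fun x y h => Fin.ext (by
    have := congrArg Fin.val h
    simp only [farPt] at this
    omega)
  have h := card_filter_adj (farPt i)
  rw [e, Finset.card_union_of_disjoint, card_starSet, Finset.card_image_of_injective _ hinj] at h
  · omega
  · refine Finset.disjoint_left.2 fun j h1 h2 => ?_
    obtain ⟨k, -, rfl⟩ := Finset.mem_image.1 h2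
    exact (farPt_spec k).2 (Finset.mem_filter.1 h1).1

namespace Setting

variable {Ω : Type*} [Fintype Ω] [DecidableEq Ω] {G : Subgroup (Equiv.Perm Ω)}
  [IsPretransitive G Ω] {a b c : Ω} (D : Setting G a b c)

variable {f : Ω → Pt} (hmem : ∀ y ∈ D.near, f y ∈ nb) (hinj : Set.InjOn f D.near)
  (himg : D.near.image f = nb)
  (heq : ∀ (s : stabilizer G a), ∀ y ∈ D.near, f (s • y) = (D.ψ s : Equiv.Perm Pt) (f y))

/-- The neighbours of `z` in the first neighbourhood, in the model. -/
noncomputable def trace (_D : Setting G a b c) (f : Ω → Pt) (z : Ω) : Finset Pt :=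
  (outSet G a b z ∩ outSet G a b a).image f

include hmem hinj himg heq

theorem mem_trace {z y : Ω} (hy : y ∈ D.near) : f y ∈ D.trace f z ↔ y ∈ outSet G a b z := by
  refine ⟨fun h => ?_, fun h => Finset.mem_image.2 ⟨y, Finset.mem_inter.2 ⟨h, hy⟩, rfl⟩⟩
  obtain ⟨w, hw, he⟩ := Finset.mem_image.1 h
  obtain ⟨h1, h2⟩ := Finset.mem_inter.1 hw
  exact hinj h2 hy he ▸ h1

theorem trace_smul (s : stabilizer G a) (z : Ω) :
    D.trace f (s • z) = (D.ψ s : Equiv.Perm Pt) • D.trace f z := by
  ext p
  rw [mem_smul_pt]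
  by_cases hp : p ∈ nb
  · obtain ⟨y, hy, rfl⟩ := Finset.mem_image.1 (himg.symm ▸ hp)
    have hy' := D.smul_mem_near s⁻¹ hy
    have e : f (s⁻¹ • y) = (D.ψ s : Equiv.Perm Pt)⁻¹ (f y) := by
      rw [heq _ y hy, map_inv]; rfl
    rw [← e, D.mem_trace hmem hinj himg heq hy, D.mem_trace hmem hinj himg heq hy']
    conv_lhs => rw [← smul_inv_smul s y]
    exact mem_outSet_smul (s : G)
  · have h1 : ∀ w, p ∉ D.trace f w := fun w h => by
      obtain ⟨y, hy, rfl⟩ := Finset.mem_image.1 h
      exact hp (hmem y (Finset.mem_inter.1 hy).2)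
    refine iff_of_false (h1 _) fun h => ?_
    obtain ⟨y, hy, hye⟩ := Finset.mem_image.1 h
    have := hmem y (Finset.mem_inter.1 hy).2
    rw [hye, mclStab_nb (inv_mem (D.ψ s).2)] at this
    exact hp this

/-- The numbers of common neighbours in the second neighbourhood. -/
theorem card_far_common {y y' : Ω} (hy : y ∈ D.near) (hy' : y' ∈ D.near) :
    (outSet G a b y ∩ outSet G a b y' ∩ D.far).card =
      if y = y' then 81 else if adj (f y) (f y') then 27 else 45 := by
  classical
  obtain ⟨h30, h56, hadj⟩ := D.params hmem hinj himg heq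
  have hsplit := D.split_card (outSet G a b y ∩ outSet G a b y')
  have ha : a ∈ outSet G a b y ∩ outSet G a b y' :=
    Finset.mem_inter.2 ⟨D.symm.1 hy, D.symm.1 hy'⟩
  have himage : (outSet G a b y ∩ outSet G a b y' ∩ D.near).card =
      (nbAdj (f y) ∩ nbAdj (f y')).card := by
    rw [← Finset.card_image_of_injOn (f := f) fun u hu v hv e =>
      hinj (Finset.mem_inter.1 hu).2 (Finset.mem_inter.1 hv).2 e]
    congr 1
    ext p
    simp only [Finset.mem_image, Finset.mem_inter, nbAdj, Finset.mem_filter]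
    constructor
    · rintro ⟨w, ⟨⟨w1, w2⟩, w3⟩, rfl⟩
      exact ⟨⟨hmem w w3, (hadj y hy w w3).1 w1⟩, hmem w w3, (hadj y' hy' w w3).1 w2⟩
    · rintro ⟨⟨hp, p1⟩, -, p2⟩
      obtain ⟨w, hw, rfl⟩ := Finset.mem_image.1 (himg.symm ▸ hp)
      exact ⟨w, ⟨⟨(hadj y hy w hw).2 p1, (hadj y' hy' w hw).2 p2⟩, hw⟩, rfl⟩
  rw [if_pos ha, himage] at hsplit
  by_cases he : y = y'
  · subst he
    rw [Finset.inter_self, D.card_out, Finset.inter_self, card_nbAdj (hmem y hy)] at hsplit
    rw [if_pos rfl, Finset.inter_self]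
    omega
  · have hne : f y ≠ f y' := fun e => he (hinj hy hy' e)
    rw [if_neg he]
    rw [card_nbAdj_inter (hmem y hy) (hmem y' hy') hne] at hsplit
    cases h : adj (f y) (f y')
    · have hn : y' ∉ outSet G a b y := fun h' => by
        rw [(hadj y hy y' hy').1 h'] at h
        simp at h
      have hc := D.card_com_nonadj hn he
      rw [h56] at hc
      change (outSet G a b y ∩ outSet G a b y').card = 56 at hc
      simp only [h, hc, Bool.false_eq_true, if_false] at hsplit ⊢
      omega
    · have hc := D.card_com_adj ((hadj y hy y' hy').2 h)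
      rw [h30] at hc
      change (outSet G a b y ∩ outSet G a b y').card = 30 at hc
      simp only [h, hc, if_true] at hsplit ⊢
      omega

theorem sum_trace (S : Finset Ω) (hS : S ⊆ D.near) (W : Finset Ω) (g : Finset Pt)
    (hg : S.image f = g) :
    ∑ z ∈ W, (D.trace f z ∩ g).card = ∑ y ∈ S, (outSet G a b y ∩ W).card := by
  classical
  have h := Finset.sum_card_bipartiteAbove_eq_sum_card_bipartiteBelow
    (s := S) (t := W) (fun y z => z ∈ outSet G a b y)
  have e1 : ∀ y, Finset.bipartiteAbove (fun y z => z ∈ outSet G a b y) W y = outSet G a b y ∩ W :=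
    fun y => by ext; simp [Finset.bipartiteAbove, and_comm]
  have e2 : ∀ z, (Finset.bipartiteBelow (fun y z => z ∈ outSet G a b y) S z).card =
      (D.trace f z ∩ g).card := fun z => by
    rw [← Finset.card_image_of_injOn (f := f)
      (s := Finset.bipartiteBelow (fun y z => z ∈ outSet G a b y) S z) fun u hu v hv e =>
      hinj (hS (Finset.mem_filter.1 hu).1) (hS (Finset.mem_filter.1 hv).1) e]
    congr 1
    ext p
    subst hg
    simp only [Finset.bipartiteBelow, Finset.mem_image, Finset.mem_filter, Finset.mem_inter]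
    constructor
    · rintro ⟨y, ⟨hy, hyz⟩, rfl⟩
      exact ⟨(D.mem_trace hmem hinj himg heq (hS hy)).2 (D.symm.1 hyz), y, hy, rfl⟩
    · rintro ⟨h1, y, hy, rfl⟩
      exact ⟨y, ⟨hy, D.symm.1 ((D.mem_trace hmem hinj himg heq (hS hy)).1 h1)⟩, rfl⟩
  simp only [e1] at h
  rw [h]
  exact Finset.sum_congr rfl fun z _ => (e2 z).symm

theorem sum_trace_sq (S : Finset Ω) (hS : S ⊆ D.near) (g : Finset Pt) (hg : S.image f = g) :
    ∑ z ∈ D.far, (D.trace f z ∩ g).card ^ 2 =
      ∑ y ∈ S, ∑ y' ∈ S, (outSet G a b y ∩ outSet G a b y' ∩ D.far).card := by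
  classical
  have e : ∀ y : Ω, ∑ y' ∈ S, (outSet G a b y ∩ outSet G a b y' ∩ D.far).card =
      ∑ z ∈ outSet G a b y ∩ D.far, (D.trace f z ∩ g).card := fun y => by
    rw [D.sum_trace hmem hinj himg heq S hS _ g hg]
    refine Finset.sum_congr rfl fun y' _ => ?_
    congr 1
    ext; simp; tauto
  rw [Finset.sum_congr rfl fun y _ => e y]
  have h : ∀ z ∈ D.far, (D.trace f z ∩ g).card ^ 2 =
      ∑ y ∈ S.filter (fun y => z ∈ outSet G a b y), (D.trace f z ∩ g).card := by
    intro z _
    rw [Finset.sum_const, smul_eq_mul, sq]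
    congr 1
    rw [← Finset.card_image_of_injOn (f := f) (s := S.filter fun y => z ∈ outSet G a b y)
      fun u hu v hv e => hinj (hS (Finset.mem_filter.1 hu).1) (hS (Finset.mem_filter.1 hv).1) e]
    congr 1
    ext p
    subst hg
    simp only [Finset.mem_image, Finset.mem_filter, Finset.mem_inter]
    constructor
    · rintro ⟨h1, y, hy, rfl⟩
      exact ⟨y, ⟨hy, D.symm.1 ((D.mem_trace hmem hinj himg heq (hS hy)).1 h1)⟩, rfl⟩
    · rintro ⟨y, ⟨hy, hyz⟩, rfl⟩
      exact ⟨(D.mem_trace hmem hinj himg heq (hS hy)).2 (D.symm.1 hyz), y, hy, rfl⟩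
  rw [Finset.sum_congr rfl h]
  rw [Finset.sum_comm' (t' := S) (s' := fun y => outSet G a b y ∩ D.far)]
  intro z y
  simp only [Finset.mem_filter, Finset.mem_inter]
  tauto

/-- The trace of a far point is a hemisystem. -/
theorem isHemi_trace {z : Ω} (hz : z ∈ D.far) : IsHemi (D.trace f z) := by
  classical
  refine ⟨fun p hp => ?_, fun L hL => ?_⟩
  · obtain ⟨y, hy, rfl⟩ := Finset.mem_image.1 hp
    exact hmem y (Finset.mem_inter.1 hy).2
  set S := D.near.filter fun y => f y ∈ L with hS
  have hSn : S ⊆ D.near := Finset.filter_subset _ _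
  have hg : S.image f = L := by
    ext p
    simp only [hS, Finset.mem_image, Finset.mem_filter]
    refine ⟨fun ⟨y, ⟨_, h⟩, e⟩ => e ▸ h, fun hp => ?_⟩
    obtain ⟨y, hy, rfl⟩ := Finset.mem_image.1 (himg.symm ▸ hL.1 hp)
    exact ⟨y, ⟨hy, hp⟩, rfl⟩
  have hSc : S.card = 4 := by
    rw [← hL.2.1, ← hg, Finset.card_image_of_injOn fun u hu v hv e => hinj (hSn hu) (hSn hv) e]
  have h1 : ∑ w ∈ D.far, (D.trace f w ∩ L).card = 324 := by
    rw [D.sum_trace hmem hinj himg heq S hSn D.far L hg,
      Finset.sum_congr rfl (g := fun _ => 81) fun y hy => ?_]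
    · simp [hSc]
    · have := D.card_far_common hmem hinj himg heq (hSn hy) (hSn hy)
      rwa [if_pos rfl, Finset.inter_self] at this
  have h2 : ∑ w ∈ D.far, (D.trace f w ∩ L).card ^ 2 = 648 := by
    rw [D.sum_trace_sq hmem hinj himg heq S hSn L hg,
      Finset.sum_congr rfl (g := fun _ => 162) fun y hy => ?_]
    · simp [hSc]
    rw [← Finset.add_sum_erase S _ hy, D.card_far_common hmem hinj himg heq (hSn hy) (hSn hy),
      if_pos rfl, Finset.sum_congr rfl (g := fun _ => 27) fun y' hy' => ?_]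
    · simp [Finset.card_erase_of_mem hy, hSc]
    obtain ⟨hne, hy'S⟩ := Finset.mem_erase.1 hy'
    rw [D.card_far_common hmem hinj himg heq (hSn hy) (hSn hy'S), if_neg (Ne.symm hne),
      if_pos (hL.2.2 _ (Finset.mem_filter.1 hy).2 _ (Finset.mem_filter.1 hy'S).2
        fun e => hne (hinj (hSn hy'S) (hSn hy) e.symm))]
  have h0 : ∑ w ∈ D.far, (((D.trace f w ∩ L).card : ℤ) - 2) ^ 2 = 0 := by
    have h1' : ∑ w ∈ D.far, ((D.trace f w ∩ L).card : ℤ) = 324 := by exact_mod_cast h1
    have h2' : ∑ w ∈ D.far, ((D.trace f w ∩ L).card : ℤ) ^ 2 = 648 := by exact_mod_cast h2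
    simp only [sub_sq, Finset.sum_add_distrib, Finset.sum_sub_distrib, Finset.sum_const,
      ← Finset.sum_mul, ← Finset.mul_sum, h1', h2', D.card_far, nsmul_eq_mul]
    norm_num
  have h := (Finset.sum_eq_zero_iff_of_nonneg fun w _ => sq_nonneg _).1 h0 z hz
  have := sq_eq_zero_iff.1 h
  omega

/-- The far points biject to one family. -/
theorem exists_family : ∃ (k : Fin 4) (ι : Ω → Fin 162), Set.InjOn ι D.far ∧
    (∀ z ∈ D.far, D.trace f z = famSet k (ι z)) ∧
    ∀ z ∈ D.far, ∀ z' ∈ D.far,
      (z' ∈ outSet G a b z ↔ adj (farPt (ι z)) (farPt (ι z')) = true) := by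
  classical
  have hcf : c ∈ D.far := D.mem_far.2 (mem_orbit_self c)
  obtain ⟨h30, h56, hadj⟩ := D.params hmem hinj himg heq
  obtain ⟨k, i₀, hk⟩ := exists_famSet (D.isHemi_trace hmem hinj himg heq hcf)
  have hall : ∀ z ∈ D.far, ∃ i, D.trace f z = famSet k i := fun z hz => by
    obtain ⟨s, rfl⟩ := D.mem_far.1 hz
    rw [D.trace_smul hmem hinj himg heq, hk]
    exact mclStab_famSet (D.ψ s).2 (hk ▸ D.isHemi_trace hmem hinj himg heq hcf)
  let ι : Ω → Fin 162 := fun z => if h : ∃ i, D.trace f z = famSet k i then h.choose else 0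
  have hι : ∀ z ∈ D.far, D.trace f z = famSet k (ι z) := fun z hz => by
    simp only [ι, dif_pos (hall z hz)]
    exact (hall z hz).choose_spec
  -- the points of a trace
  let P : Ω → Finset Ω := fun z => outSet G a b z ∩ outSet G a b a
  have hPn : ∀ z, P z ⊆ D.near := fun z => Finset.inter_subset_right
  have hPc : ∀ z ∈ D.far, (P z).card = 56 := fun z hz => by
    have hna : z ∉ outSet G a b a := fun h => D.not_mem_both (D.mem_near.1 h) (D.mem_far.1 hz)
    rw [← h56, ← D.card_com_nonadj hna (fun e =>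
      not_self_mem_orbit D.hc (by norm_num) (e ▸ D.mem_far.1 hz))]
    show (outSet G a b z ∩ outSet G a b a).card = (outSet G a b a ∩ outSet G a b z).card
    rw [Finset.inter_comm]
  have hdeg : ∀ z ∈ D.far, ∀ y ∈ P z, ((P z).filter fun y' => adj (f y) (f y') = true).card = 10 := by
    intro z hz y hy
    rw [← card_famSet_adj (k := k) (i := ι z) (p := f y)
      (hι z hz ▸ Finset.mem_image.2 ⟨y, hy, rfl⟩), ← hι z hz,
      ← Finset.card_image_of_injOn (f := f) (s := (P z).filter _) fun u hu v hv e =>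
        hinj (hPn z (Finset.mem_filter.1 hu).1) (hPn z (Finset.mem_filter.1 hv).1) e]
    congr 1
    ext p
    simp only [trace, P, Finset.mem_image, Finset.mem_filter]
    constructor
    · rintro ⟨w, ⟨hw, hw'⟩, rfl⟩; exact ⟨⟨w, hw, rfl⟩, hw'⟩
    · rintro ⟨⟨w, hw, rfl⟩, hw'⟩; exact ⟨w, ⟨hw, hw'⟩, rfl⟩
  have hn : ∀ z ∈ D.far, ∀ w ∈ D.far, (D.trace f w ∩ D.trace f z).card =
      if ι z = ι w then 56 else if adj (farPt (ι w)) (farPt (ι z)) then 20 else 32 :=
    fun z hz w hw => by rw [hι z hz, hι w hw, card_famSet_inter]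
  -- injectivity
  have hinjι : Set.InjOn ι D.far := by
    intro z hz z' hz' he
    simp only [Finset.mem_coe] at hz hz'
    have h1 : ∑ w ∈ D.far, (D.trace f w ∩ D.trace f z).card = 4536 := by
      rw [D.sum_trace hmem hinj himg heq (P z) (hPn z) D.far (D.trace f z) rfl,
        Finset.sum_congr rfl (g := fun _ => 81) fun y hy => ?_]
      · simp [hPc z hz]
      · have := D.card_far_common hmem hinj himg heq (hPn z hy) (hPn z hy)
        rwa [if_pos rfl, Finset.inter_self] at this
    have h2 : ∑ w ∈ D.far, (D.trace f w ∩ D.trace f z).card ^ 2 = 133056 := by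
      rw [D.sum_trace_sq hmem hinj himg heq (P z) (hPn z) (D.trace f z) rfl,
        Finset.sum_congr rfl (g := fun _ => 2376) fun y hy => ?_]
      · simp [hPc z hz]
      rw [← Finset.add_sum_erase (P z) _ hy,
        D.card_far_common hmem hinj himg heq (hPn z hy) (hPn z hy), if_pos rfl,
        Finset.sum_congr rfl (g := fun y' => if adj (f y) (f y') then 27 else 45) fun y' hy' => by
          rw [D.card_far_common hmem hinj himg heq (hPn z hy) (hPn z (Finset.mem_of_mem_erase hy')),
            if_neg (Ne.symm (Finset.ne_of_mem_erase hy'))],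
        Finset.sum_ite, Finset.sum_const, Finset.sum_const]
      have hA : (((P z).erase y).filter fun y' => adj (f y) (f y') = true).card = 10 := by
        refine (congrArg Finset.card ?_).trans (hdeg z hz y hy)
        ext w
        simp only [Finset.mem_filter, Finset.mem_erase]
        refine ⟨fun h => ⟨h.1.2, h.2⟩, fun h => ⟨⟨?_, h.1⟩, h.2⟩⟩
        rintro rfl
        simp [adj_self] at h
      have hB := Finset.card_filter_add_card_filter_not
        (s := (P z).erase y) (fun y' => adj (f y) (f y') = true)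
      rw [Finset.card_erase_of_mem hy, hPc z hz, hA] at hB
      rw [hA, smul_eq_mul, smul_eq_mul, show (((P z).erase y).filter fun y' =>
        ¬ adj (f y) (f y') = true).card = 45 by omega]
      norm_num
    have h0 : ∑ w ∈ D.far, ((((D.trace f w ∩ D.trace f z).card : ℤ) - 20) *
        (((D.trace f w ∩ D.trace f z).card : ℤ) - 32)) = 864 := by
      have h1' : ∑ w ∈ D.far, ((D.trace f w ∩ D.trace f z).card : ℤ) = 4536 := by exact_mod_cast h1
      have h2' : ∑ w ∈ D.far, ((D.trace f w ∩ D.trace f z).card : ℤ) ^ 2 = 133056 := by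
        exact_mod_cast h2
      rw [Finset.sum_congr rfl (g := fun w => ((D.trace f w ∩ D.trace f z).card : ℤ) ^ 2 -
        52 * ((D.trace f w ∩ D.trace f z).card : ℤ) + 640) fun w _ => by ring]
      rw [Finset.sum_add_distrib, Finset.sum_sub_distrib, ← Finset.mul_sum, h1', h2',
        Finset.sum_const, D.card_far]
      norm_num
    rw [Finset.sum_congr rfl (g := fun w => if ι w = ι z then (864 : ℤ) else 0) fun w hw => ?_,
      Finset.sum_ite, Finset.sum_const_zero, add_zero, Finset.sum_const, nsmul_eq_mul] at h0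
    · have hone : (D.far.filter fun w => ι w = ι z).card = 1 := by
        have : ((D.far.filter fun w => ι w = ι z).card : ℤ) = 1 := by linarith
        exact_mod_cast this
      exact Finset.card_le_one.1 hone.le _ (Finset.mem_filter.2 ⟨hz, rfl⟩) _
        (Finset.mem_filter.2 ⟨hz', he.symm⟩)
    · rw [hn z hz w hw]
      by_cases e : ι w = ι z
      · simp [e]
      · simp only [e, Ne.symm e, if_false]
        split_ifs <;> norm_num
  refine ⟨k, ι, hinjι, hι, fun z hz z' hz' => ?_⟩
  -- adjacency of far points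
  set N := outSet G a b z ∩ D.far with hN
  have hNc : N.card = 56 := by
    have h := D.split_card (outSet G a b z)
    have ha : a ∉ outSet G a b z := fun h' =>
      D.not_mem_both (D.mem_near.1 (D.symm.1 h')) (D.mem_far.1 hz)
    have hP := hPc z hz
    rw [D.card_out, if_neg ha] at h
    change 112 = 0 + (P z).card + N.card at h
    omega
  have hsum : ∑ w ∈ N, (D.trace f w ∩ D.trace f z).card = 1120 := by
    rw [D.sum_trace hmem hinj himg heq (P z) (hPn z) N (D.trace f z) rfl,
      Finset.sum_congr rfl (g := fun _ => 20) fun y hy => ?_]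
    · simp [hPc z hz]
    have hyz : y ∈ outSet G a b z := (Finset.mem_inter.1 hy).1
    have hc := D.card_com_adj (D.symm.1 hyz)
    rw [h30] at hc
    change (outSet G a b y ∩ outSet G a b z).card = 30 at hc
    have h := D.split_card (outSet G a b y ∩ outSet G a b z)
    have ha : a ∉ outSet G a b y ∩ outSet G a b z := fun h' =>
      D.not_mem_both (D.mem_near.1 (D.symm.1 (Finset.mem_inter.1 h').2)) (D.mem_far.1 hz)
    have he : (outSet G a b y ∩ outSet G a b z ∩ D.near).card = 10 := by
      rw [← hdeg z hz y hy]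
      congr 1
      ext w
      simp only [P, Finset.mem_inter, Finset.mem_filter]
      constructor
      · rintro ⟨⟨h1, h2⟩, h3⟩
        exact ⟨⟨h2, h3⟩, (hadj y (hPn z hy) w h3).1 h1⟩
      · rintro ⟨⟨h2, h3⟩, h1⟩
        exact ⟨⟨(hadj y (hPn z hy) w h3).2 h1, h2⟩, h3⟩
    rw [hc, if_neg ha, he] at h
    rw [hN, ← Finset.inter_assoc]
    omega
  set Q := D.far.filter fun w => adj (farPt (ι z)) (farPt (ι w)) = true with hQ
  have hQc : Q.card = 56 := by
    have hsur : ∀ j : Fin 162, ∃ w ∈ D.far, ι w = j := by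
      intro j
      have : D.far.image ι = Finset.univ := Finset.eq_univ_of_card _ (by
        rw [Finset.card_image_of_injOn hinjι, D.card_far, Fintype.card_fin])
      have hj := Finset.mem_univ j
      rw [← this] at hj
      exact Finset.mem_image.1 hj
    rw [← card_far_adj (ι z)]
    refine Finset.card_bij (fun w _ => ι w)
      (fun w hw => Finset.mem_filter.2 ⟨Finset.mem_univ _, (Finset.mem_filter.1 hw).2⟩)
      (fun u hu v hv e => hinjι (Finset.mem_filter.1 hu).1 (Finset.mem_filter.1 hv).1 e)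
      fun j hj => ?_
    obtain ⟨w, hw, rfl⟩ := hsur j
    exact ⟨w, Finset.mem_filter.2 ⟨hw, (Finset.mem_filter.1 hj).2⟩, rfl⟩
  have h20 : ∀ w ∈ N, (D.trace f w ∩ D.trace f z).card = 20 := by
    have hlb : ∀ w ∈ N, 20 ≤ (D.trace f w ∩ D.trace f z).card := fun w hw => by
      rw [hn z hz w (Finset.mem_inter.1 hw).2]; split_ifs <;> norm_num
    intro w hw
    have := (Finset.sum_eq_sum_iff_of_le hlb).1 (by rw [hsum, Finset.sum_const, hNc]; norm_num) w hw
    exact this.symm
  have hNQ : N = Q := by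
    refine Finset.eq_of_subset_of_card_le (fun w hw => ?_) (by rw [hNc, hQc])
    have hwf := (Finset.mem_inter.1 hw).2
    have h := h20 w hw
    rw [hn z hz w hwf] at h
    refine Finset.mem_filter.2 ⟨hwf, ?_⟩
    rw [adj_comm]
    split_ifs at h with h1 h2 <;> first | exact h2 | omega
  constructor
  · intro h
    have : z' ∈ Q := hNQ ▸ Finset.mem_inter.2 ⟨h, hz'⟩
    exact (Finset.mem_filter.1 this).2
  · intro h
    have : z' ∈ N := hNQ.symm ▸ Finset.mem_filter.2 ⟨hz', h⟩
    exact (Finset.mem_inter.1 this).1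

omit hmem hinj himg heq in
include D in
/-- The group is the McLaughlin group. -/
theorem nonempty_mulEquiv : Nonempty (G ≃* mclGroup) := by
  classical
  obtain ⟨f, hmem, hinj, himg, heq⟩ := D.exists_nearMap
  obtain ⟨k, ι, hι, htr, hff⟩ := D.exists_family hmem hinj himg heq
  obtain ⟨-, -, hadj⟩ := D.params hmem hinj himg heq
  obtain ⟨σ, hσ, hfam⟩ := exists_keepsNb_famSet k
  let φ : Ω → Pt := fun y => if y = a then 0 else if y ∈ D.near then σ⁻¹ (f y) else farPt (ι y)
  have hφa : φ a = 0 := if_pos rfl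
  have hane : ∀ y ∈ D.near, y ≠ a := fun y hy e =>
    not_self_mem_orbit D.hb (by norm_num) (e ▸ D.mem_near.1 hy)
  have hafar : ∀ y ∈ D.far, y ≠ a := fun y hy e =>
    not_self_mem_orbit D.hc (by norm_num) (e ▸ D.mem_far.1 hy)
  have hfn : ∀ y ∈ D.far, y ∉ D.near := fun y hy h =>
    D.not_mem_both (D.mem_near.1 h) (D.mem_far.1 hy)
  have hφn : ∀ y ∈ D.near, φ y = σ⁻¹ (f y) := fun y hy => by simp [φ, hane y hy, hy]
  have hφf : ∀ y ∈ D.far, φ y = farPt (ι y) := fun y hy => by simp [φ, hafar y hy, hfn y hy]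
  have hcases : ∀ y, y = a ∨ y ∈ D.near ∨ y ∈ D.far := fun y => by
    rcases D.cases y with e | e | e
    exacts [Or.inl e, Or.inr (Or.inl (D.mem_near.2 e)), Or.inr (Or.inr (D.mem_far.2 e))]
  have hnbf : ∀ y ∈ D.near, σ⁻¹ (f y) ∈ nb := fun y hy => (hσ.inv.1 _).2 (hmem y hy)
  have h0nb : (0 : Pt) ∉ nb := fun h => by simp [mem_nb, adj_self] at h
  have hφi : Function.Injective φ := by
    intro y y' e
    rcases hcases y with rfl | hy | hy <;> rcases hcases y' with h' | hy' | hy'
    · exact h'.symm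
    · rw [hφa, hφn y' hy'] at e; exact absurd (e ▸ hnbf y' hy') h0nb
    · rw [hφa, hφf y' hy'] at e; exact absurd e.symm (farPt_spec _).1
    · rw [h', hφa, hφn y hy] at e; exact absurd (e ▸ hnbf y hy) h0nb
    · rw [hφn y hy, hφn y' hy'] at e; exact hinj hy hy' (σ⁻¹.injective e)
    · rw [hφn y hy, hφf y' hy'] at e; exact absurd (e ▸ hnbf y hy) (farPt_spec _).2
    · rw [h', hφa, hφf y hy] at e; exact absurd e (farPt_spec _).1
    · rw [hφf y hy, hφn y' hy'] at e; exact absurd (e ▸ hnbf y' hy') (farPt_spec _).2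
    · rw [hφf y hy, hφf y' hy'] at e
      refine hι hy hy' (Fin.ext ?_)
      have := congrArg Fin.val e
      simp only [farPt] at this
      omega
  have hφb : Function.Bijective φ :=
    (Fintype.bijective_iff_injective_and_card φ).2 ⟨hφi, by rw [D.hΩ, Fintype.card_fin]⟩
  -- the graphs agree
  have hout : ∀ y ∈ D.near, ∀ z ∈ D.far,
      (z ∈ outSet G a b y ↔ adj (σ⁻¹ (f y)) (farPt (ι z)) = true) := by
    intro y hy z hz
    rw [D.symm, ← D.mem_trace hmem hinj himg heq hy, htr z hz, hfam, mem_smul_pt, starSet,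
      Finset.mem_filter, adj_comm]
    exact and_iff_right (hnbf y hy)
  have hzero : ∀ i, adj 0 (farPt i) = false := fun i =>
    Bool.eq_false_iff.2 fun h => (farPt_spec i).2 (mem_nb.2 h)
  have hR : ∀ y y', y' ∈ outSet G a b y ↔ adj (φ y) (φ y') = true := by
    intro y y'
    rcases hcases y with rfl | hy | hy <;> rcases hcases y' with h' | hy' | hy'
    · subst h'; simp [D.self_not_mem, adj_self]
    · rw [hφa, hφn y' hy', ← mem_nb]; exact iff_of_true hy' (hnbf y' hy')
    · rw [hφa, hφf y' hy', hzero]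
      exact iff_of_false (hfn y' hy') (by simp)
    · subst h'; rw [hφa, hφn y hy, adj_comm, ← mem_nb, D.symm]; exact iff_of_true hy (hnbf y hy)
    · rw [hφn y hy, hφn y' hy', hadj y hy y' hy',
        hσ.inv.2 _ (hmem y hy) _ (hmem y' hy')]
    · rw [hφn y hy, hφf y' hy']; exact hout y hy y' hy'
    · subst h'; rw [hφa, hφf y hy, adj_comm, hzero, D.symm]
      exact iff_of_false (hfn y hy) (by simp)
    · rw [hφf y hy, hφn y' hy', adj_comm, D.symm]; exact hout y' hy' y hy
    · rw [hφf y hy, hφf y' hy']; exact hff y hy y' hy'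
  -- the embedding
  let e : Ω ≃ Pt := Equiv.ofBijective φ hφb
  let Φ : G →* Equiv.Perm Pt := e.permCongrHom.toMonoidHom.comp G.subtype
  have hΦi : Function.Injective Φ := e.permCongrHom.injective.comp Subtype.val_injective
  have hΦ : ∀ (g : G) (y : Ω), Φ g (φ y) = φ (g • y) := fun g y => by
    show e (g.1 (e.symm (e y))) = e (g.1 y)
    rw [Equiv.symm_apply_apply]
  have hΦa : Φ.range ≤ autG := by
    rintro _ ⟨g, rfl⟩ i j
    obtain ⟨y, rfl⟩ := hφb.2 i
    obtain ⟨y', rfl⟩ := hφb.2 j
    rw [hΦ, hΦ]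
    exact Bool.eq_iff_iff.2 (by rw [← hR, ← hR, mem_outSet_smul])
  set M := mcl.comap Φ with hM
  have hMi : M.index ≤ 2 ∧ M.index ≠ 0 := by
    have hne : mcl.relIndex autG ≠ 0 := Subgroup.index_ne_zero_of_finite
    refine ⟨?_, Subgroup.index_ne_zero_of_finite⟩
    rw [hM, Subgroup.index_comap]
    exact (Subgroup.relIndex_le_of_le_right hΦa hne).trans relIndex_mcl_le
  have hS : stabilizer G a ≤ M := by
    have := isSimpleGroup_mclStab
    have : Nontrivial (stabilizer G a) := D.ψ.toEquiv.nontrivial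
    have : IsSimpleGroup (stabilizer G a) :=
      IsSimpleGroup.isSimpleGroup_of_surjective D.ψ.symm.toMonoidHom D.ψ.symm.surjective
    have hidx : (M.subgroupOf (stabilizer G a)).index ≤ 4 := by
      refine le_trans (Subgroup.relIndex_le_of_le_right (le_top : stabilizer G a ≤ ⊤)
        (by rw [Subgroup.relIndex_top_right]; exact hMi.2)) ?_
      rw [Subgroup.relIndex_top_right]; omega
    have := eq_top_of_index_le_four (by rw [Nat.card_congr D.ψ.toEquiv, natCard_mclStab]; norm_num)
      hidx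
    exact Subgroup.subgroupOf_eq_top.1 this
  have hM1 : M.index = 1 := by
    have hd := Subgroup.index_dvd_of_le hS
    rw [index_stabilizer_of_transitive, Nat.card_eq_fintype_card, D.hΩ] at hd
    have h2 := hMi
    rcases (by omega : M.index = 1 ∨ M.index = 2) with h | h
    · exact h
    · rw [h] at hd; norm_num at hd
  have hrange : Φ.range ≤ mcl := by
    rintro _ ⟨g, rfl⟩
    have : g ∈ M := Subgroup.index_eq_one.1 hM1 ▸ Subgroup.mem_top g
    exact this
  have hcard : Nat.card G = Nat.card mcl := by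
    have h := (stabilizer G a).index_mul_card
    rw [index_stabilizer_of_transitive, Nat.card_eq_fintype_card, D.hΩ,
      Nat.card_congr D.ψ.toEquiv, natCard_mclStab] at h
    rw [natCard_mcl]
    omega
  have hrc : Φ.range = mcl :=
    Subgroup.eq_of_le_of_card_ge hrange
      (by rw [← Nat.card_congr (MonoidHom.ofInjective hΦi).toEquiv, hcard])
  exact ⟨((MonoidHom.ofInjective hΦi).trans (MulEquiv.subgroupCongr hrc)).trans
    nonempty_mclEquiv_mcl.some.symm⟩

end Setting

end Cfsg.Agent.McLRankThree
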