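import Cfsg.Agent.Lib.McLRankThree.Model
import Cfsg.Agent.Lib.McLRankThree.ChecksSearch

/-!
# The hemisystems of the graph on the 112 neighbours of `0`

* `IsHemi`, `famSet`, `exists_famSet`
* `mclStab_famSet` : the point stabiliser keeps each of the four families
* `card_famSet`, `card_famSet_adj`, `card_famSet_inter` : their parameters
-/

set_option autoImplicit false

open scoped Pointwise

namespace Cfsg.Agent.McLRankThree

open MulAction

/-- Four mutually adjacent neighbours of `0`. -/
def IsQuad (L : Finset Pt) : Prop :=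
  L ⊆ nb ∧ L.card = 4 ∧ ∀ a ∈ L, ∀ b ∈ L, a ≠ b → adj a b = true

/-- A set of neighbours of `0` meeting each four-clique in two points. -/
def IsHemi (B : Finset Pt) : Prop :=
  B ⊆ nb ∧ ∀ L, IsQuad L → (B ∩ L).card = 2

/-- A permutation preserves the graph on the neighbours of `0`. -/
def KeepsNb (s : Equiv.Perm Pt) : Prop :=
  (∀ x, s x ∈ nb ↔ x ∈ nb) ∧ ∀ x ∈ nb, ∀ y ∈ nb, adj (s x) (s y) = adj x y

theorem keepsNb_of_mem {u : Equiv.Perm Pt} (hu : u ∈ mclStab) : KeepsNb u :=
  ⟨fun _ => mclStab_nb hu, fun x _ y _ => mclStab_adj hu x y⟩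

theorem KeepsNb.inv {s : Equiv.Perm Pt} (h : KeepsNb s) : KeepsNb s⁻¹ := by
  have hn : ∀ x, s⁻¹ x ∈ nb ↔ x ∈ nb := fun x => by
    rw [← h.1 (s⁻¹ x)]
    rw [show s (s⁻¹ x) = x from s.apply_symm_apply x]
  refine ⟨hn, fun x hx y hy => ?_⟩
  rw [← h.2 _ ((hn x).2 hx) _ ((hn y).2 hy), show s (s⁻¹ x) = x from s.apply_symm_apply x,
    show s (s⁻¹ y) = y from s.apply_symm_apply y]

theorem mem_smul_pt {s : Equiv.Perm Pt} {B : Finset Pt} {x : Pt} : x ∈ s • B ↔ s⁻¹ x ∈ B :=
  Finset.inv_smul_mem_iff.symm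

theorem IsHemi.smul {B : Finset Pt} (hB : IsHemi B) {s : Equiv.Perm Pt} (hs : KeepsNb s) :
    IsHemi (s • B) := by
  refine ⟨fun x hx => (hs.inv.1 x).1 (hB.1 (mem_smul_pt.1 hx)), fun L hL => ?_⟩
  have hL' : IsQuad (s⁻¹ • L) := by
    refine ⟨fun x hx => ?_, by rw [Finset.card_smul_finset]; exact hL.2.1, fun a ha b hb hne => ?_⟩
    · rw [mem_smul_pt, inv_inv] at hx
      exact (hs.1 x).1 (hL.1 hx)
    · rw [mem_smul_pt, inv_inv] at ha hb
      rw [← hs.2 a ((hs.1 a).1 (hL.1 ha)) b ((hs.1 b).1 (hL.1 hb))]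
      exact hL.2.2 _ ha _ hb (fun e => hne (s.injective e))
  have := hB.2 _ hL'
  rwa [← Finset.card_smul_finset s (B ∩ s⁻¹ • L), Finset.smul_finset_inter, smul_inv_smul] at this

/-- The point `113 + i`. -/
def farPt (i : Fin 162) : Pt := ⟨113 + (i : ℕ), by omega⟩

/-- The neighbours of a far point among the neighbours of `0`. -/
def starSet (i : Fin 162) : Finset Pt := nb.filter fun p => adj (farPt i) p = true

theorem starSet_eq (i : Fin 162) : starSet i = bitSet (starMask i) := by
  ext p
  unfold starSet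
  rw [Finset.mem_filter]
  simp only [nb, adj, farPt, starMask, mem_bitSet, Nat.testBit_and, Bool.and_eq_true]
  exact and_comm

theorem farPt_spec (i : Fin 162) : farPt i ≠ 0 ∧ farPt i ∉ nb := by
  refine ⟨fun h => ?_, fun h => ?_⟩
  · have := congrArg Fin.val h
    simp [farPt] at this
  · rw [nb, mem_bitSet] at h
    have : nbMask < 2 ^ (113 + (i : ℕ)) :=
      lt_of_lt_of_le (by decide +kernel : nbMask < 2 ^ 113)
        (Nat.pow_le_pow_right (by norm_num) (by omega))
    simp [farPt, Nat.testBit_lt_two_pow this] at h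

theorem exists_farPt {x : Pt} (h0 : x ≠ 0) (hn : x ∉ nb) : ∃ i, farPt i = x := by
  have h : 113 ≤ (x : ℕ) := by
    by_contra hc
    refine hn ?_
    have : ∀ k : Fin 113, k = 0 ∨ nbMask.testBit (k : ℕ) = true := by decide +kernel
    rcases this ⟨x, by omega⟩ with e | e
    · exact absurd (show x = 0 from Fin.ext (congrArg Fin.val e :)) h0
    · exact mem_bitSet.2 e
  exact ⟨⟨(x : ℕ) - 113, by omega⟩, Fin.ext (by simp [farPt]; omega)⟩

theorem exists_mclStab_far (i j : Fin 162) : ∃ u ∈ mclStab, u (farPt i) = farPt j :=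
  exists_mclStab_map (farPt_spec i).1 (farPt_spec j).1
    (iff_of_false (farPt_spec i).2 (farPt_spec j).2)

theorem exists_far_image {u : Equiv.Perm Pt} (hu : u ∈ mclStab) (i : Fin 162) :
    ∃ j, u (farPt i) = farPt j := by
  obtain ⟨j, hj⟩ := exists_farPt (x := u (farPt i)) (fun h => (farPt_spec i).1
    (u.injective (h.trans (mem_mclStab.1 hu).2.symm))) fun h => (farPt_spec i).2 ((mclStab_nb hu).1 h)
  exact ⟨j, hj.symm⟩

theorem smul_starSet {u : Equiv.Perm Pt} (hu : u ∈ mclStab) {i j : Fin 162}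
    (h : u (farPt i) = farPt j) : u • starSet i = starSet j := by
  ext p
  rw [mem_smul_pt]
  unfold starSet
  rw [Finset.mem_filter, Finset.mem_filter, mclStab_nb (inv_mem hu), ← h,
    ← mclStab_adj (inv_mem hu) (u (farPt i)) p,
    show u⁻¹ (u (farPt i)) = farPt i from u.symm_apply_apply _]

/-! ### The families -/

theorem exists_sigma_fam (k : Fin 4) : ∃ s : Equiv.Perm Pt, KeepsNb s ∧
    ∀ i : Fin 162, bitSet (famMask k i) = s • starSet i ∧
      (k ≠ 0 → famMask k i ∈ famMasks.getD ((k : ℕ) - 1) []) := by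
  by_cases hk : k = 0
  · subst hk
    refine ⟨1, ⟨fun _ => Iff.rfl, fun _ _ _ _ => rfl⟩, fun i => ⟨?_, fun h => absurd rfl h⟩⟩
    rw [one_smul, starSet_eq]
    congr 1
    show starMasks.getD i 0 = starMask i
    rw [List.getD_eq_getElem _ _ (by rw [star_ok.1]; exact i.2)]
    simp only [starMasks, List.getElem_map, List.getElem_drop, starMask, mask]
    rw [List.getD_eq_getElem _ _ (by rw [adjMasks_length]; omega)]
  obtain ⟨j, hj⟩ : ∃ j : Fin 3, (k : ℕ) = j + 1 :=
    ⟨⟨(k : ℕ) - 1, by have := Fin.pos_of_ne_zero hk; omega⟩,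
      by have : (k : ℕ) ≠ 0 := fun e => hk (Fin.ext e); simp; omega⟩
  obtain ⟨l1, l2, l3, hall⟩ := sigmas_ok
  set t := sigmas.getD j [] with ht
  set t' := sigmasInv.getD j [] with ht'
  set fam := famMasks.getD j [] with hfam
  have hm : (t, (t', fam)) ∈ sigmas.zip (sigmasInv.zip famMasks) := by
    refine List.mem_iff_getElem.2 ⟨j, by simp [l1, l2, l3], ?_⟩
    simp [ht, ht', hfam, l1, l2, l3]
  have hok := List.all_eq_true.1 hall _ hm
  simp only [sigmaOK, Bool.and_eq_true, beq_iff_eq] at hok
  obtain ⟨⟨⟨⟨⟨⟨⟨L1, L2⟩, L3⟩, p1⟩, p2⟩, hnbd⟩, hadj⟩, hfm⟩ := hok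
  set s := tabPerm t t' (by
    simp only [Bool.and_eq_true, beq_iff_eq]
    exact ⟨⟨⟨L1, L2⟩, p1⟩, p2⟩) with hs
  simp only [List.all_eq_true, Bool.or_eq_true, Bool.not_eq_true', beq_iff_eq,
    Bool.and_eq_true, Nat.blt_eq] at hnbd hadj hfm
  have hz : ∀ x : Pt, (((s x : Pt) : ℕ), (x : ℕ)) ∈ t.zipIdx := fun x =>
    List.mem_zipIdx_iff_getElem?.2 (by
      show t[(x : ℕ)]? = some (t.getD x 0)
      rw [List.getD_eq_getElem _ _ (by rw [L1]; exact x.2), List.getElem?_eq_getElem])
  have hn : ∀ x, s x ∈ nb ↔ x ∈ nb := fun x => by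
    simp only [nb, mem_bitSet, hnbd _ (hz x)]
  refine ⟨s, ⟨hn, fun x hx y hy => ?_⟩, fun i => ?_⟩
  · have hxz : ((mask (x : ℕ), ((s x : Pt) : ℕ)), (x : ℕ)) ∈ (adjMasks.zip t).zipIdx :=
      List.mem_zipIdx_iff_getElem?.2 (by
        show (adjMasks.zip t)[(x : ℕ)]? = some (mask (x : ℕ), t.getD x 0)
        rw [List.getElem?_eq_getElem (by simp [adjMasks_length, L1])]
        simp [mask_eq, L1])
    rcases hadj _ hxz with h | h
    · rw [show nbMask.testBit (x : ℕ) = true from mem_bitSet.1 hx] at h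
      simp at h
    · rcases h _ (hz y) with h' | h'
      · rw [show nbMask.testBit (y : ℕ) = true from mem_bitSet.1 hy] at h'
        simp at h'
      · exact h'
  · have hf : famMask k i = fam.getD i 0 := by
      rw [famMask, allFamilies, hj, List.getD_cons_succ]
    have hi : (starMask i, famMask k i) ∈ starMasks.zip fam := by
      refine List.mem_iff_getElem.2 ⟨i, by simp [star_ok.1, L3], ?_⟩
      rw [hf]
      simp [starMask, starMasks, mask, adjMasks_length, L3,
        List.getElem?_eq_getElem (show 113 + (i : ℕ) < adjMasks.length by rw [adjMasks_length]; omega)]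
    refine ⟨?_, fun _ => ?_⟩
    · ext x
      rw [mem_smul_pt, mem_bitSet, starSet_eq, mem_bitSet]
      obtain ⟨y, rfl⟩ := s.surjective x
      rw [show s⁻¹ (s y) = y from s.symm_apply_apply y]
      have := (hfm _ hi).2 _ (hz y)
      simp only at this
      rw [this]
    · rw [hf, hj, Nat.add_sub_cancel]
      show fam.getD i 0 ∈ fam
      rw [List.getD_eq_getElem fam 0 (by rw [L3]; exact i.2)]
      exact List.getElem_mem _

/-- A member of a family. -/
def famSet (k : Fin 4) (i : Fin 162) : Finset Pt := bitSet (famMask k i)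

theorem famSet_zero (i : Fin 162) : famSet 0 i = starSet i := by
  rw [starSet_eq, famSet]
  congr 1
  show starMasks.getD i 0 = starMask i
  rw [List.getD_eq_getElem _ _ (by rw [star_ok.1]; exact i.2)]
  simp only [starMasks, List.getElem_map, List.getElem_drop, starMask, mask]
  rw [List.getD_eq_getElem _ _ (by rw [adjMasks_length]; omega)]

theorem exists_keepsNb_famSet (k : Fin 4) :
    ∃ s : Equiv.Perm Pt, KeepsNb s ∧ ∀ i, famSet k i = s • starSet i := by
  obtain ⟨s, hs, h⟩ := exists_sigma_fam k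
  exact ⟨s, hs, fun i => (h i).1⟩

/-! ### The search -/

theorem foldl_or_testBit (l : List ℕ) : ∀ (m n : ℕ),
    (l.foldl (fun m v => m ||| 2 ^ v) m).testBit n = (m.testBit n || decide (n ∈ l)) := by
  induction l with
  | nil => simp
  | cons a l ih =>
    intro m n
    rw [List.foldl_cons, ih]
    simp only [Nat.testBit_or, Nat.testBit_two_pow, List.mem_cons, Bool.decide_or, Bool.or_assoc]
    by_cases h : a = n <;> simp [h, eq_comm]

theorem notMono_of_hemi {B : Finset Pt} (hB : IsHemi B) {b t : ℕ}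
    (hb : ∀ x : Pt, b.testBit (x : ℕ) = decide (x ∈ B))
    (ht : (quads.any fun q => q.any fun a =>
      t == (q.filter fun c => c != a).foldl (fun m c => m ||| 2 ^ c) 0) = true) :
    b &&& t ≠ 0 ∧ b &&& t ≠ t := by
  simp only [List.any_eq_true, beq_iff_eq] at ht
  obtain ⟨q, hq, a, ha, rfl⟩ := ht
  have hok := List.all_eq_true.1 quads_ok q hq
  simp only [Bool.and_eq_true, beq_iff_eq, decide_eq_true_eq, List.all_eq_true,
    Bool.or_eq_true] at hok
  obtain ⟨⟨hlen, hnd⟩, hall⟩ := hok
  have hlt : ∀ c ∈ q, c < 275 := fun c hc => by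
    by_contra hcc
    have := (hall c hc).1
    rw [Nat.testBit_lt_two_pow (lt_of_lt_of_le (by decide +kernel : nbMask < 2 ^ 275)
      (Nat.pow_le_pow_right (by norm_num) (by omega)))] at this
    simp at this
  let L : Finset Pt := Finset.univ.filter fun x => (x : ℕ) ∈ q
  have hLc : L.card = 4 := by
    rw [← hlen, ← List.toFinset_card_of_nodup hnd]
    exact Finset.card_bij (fun x _ => (x : ℕ)) (fun x hx => by simpa [L] using hx)
      (fun _ _ _ _ h => Fin.ext h)
      fun c hc => ⟨⟨c, hlt c (by simpa using hc)⟩, by simpa [L] using hc, rfl⟩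
  have hL : IsQuad L := by
    refine ⟨fun x hx => mem_bitSet.2 (hall x (by simpa [L] using hx)).1, hLc, fun c hc d hd hne => ?_⟩
    rcases (hall c (by simpa [L] using hc)).2 d (by simpa [L] using hd) with e | e
    · exact absurd (Fin.ext e) hne
    · exact e
  set T := (q.filter fun c => c != a).foldl (fun m c => m ||| 2 ^ c) 0 with hT
  have hTm : ∀ x : Pt, T.testBit (x : ℕ) = true ↔ x ∈ L ∧ (x : ℕ) ≠ a := fun x => by
    rw [hT, foldl_or_testBit]; simp [L]
  let e : Pt := ⟨a, hlt a ha⟩
  have h2 := hB.2 L hL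
  have hsplit : (B ∩ L.erase e).card ≥ 1 ∧ (B ∩ L.erase e).card ≤ 2 := by
    constructor
    · have : (B ∩ L).card ≤ (B ∩ L.erase e).card + 1 := by
        refine le_trans (Finset.card_le_card ?_) (Finset.card_insert_le e _)
        intro x hx
        by_cases he : x = e <;> simp_all
      omega
    · exact le_trans (Finset.card_le_card (Finset.inter_subset_inter le_rfl (Finset.erase_subset _ _)))
        h2.le
  constructor
  · intro h0
    obtain ⟨x, hx⟩ := Finset.card_pos.1 (Nat.lt_of_lt_of_le Nat.zero_lt_one hsplit.1)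
    rw [Finset.mem_inter, Finset.mem_erase] at hx
    have := congrArg (fun n => n.testBit (x : ℕ)) h0
    simp only [Nat.testBit_and, Nat.zero_testBit, hb, hx.1, decide_true, Bool.true_and] at this
    rw [(hTm x).2 ⟨hx.2.2, fun e' => hx.2.1 (Fin.ext e')⟩] at this
    simp at this
  · intro h1
    have hsub : L.erase e ⊆ B := by
      intro x hx
      rw [Finset.mem_erase] at hx
      have := congrArg (fun n => n.testBit (x : ℕ)) h1
      simp only [Nat.testBit_and, hb,
        (hTm x).2 ⟨hx.2, fun e' => hx.1 (Fin.ext e')⟩, Bool.and_true] at this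
      exact of_decide_eq_true this
    have heL : e ∈ L := by simp [L, e, ha]
    rw [Finset.inter_eq_right.2 hsub, Finset.card_erase_of_mem heL, hLc] at hsplit
    omega

theorem dfs_sound {B : Finset Pt} (hB : IsHemi B) {b : ℕ}
    (hb : ∀ x : Pt, b.testBit (x : ℕ) = decide (x ∈ B)) {good : ℕ → Bool} :
    ∀ (st : List (ℕ × List ℕ)) (S : ℕ), stepsOK st S = true → dfs good st (b &&& S) = true →
      good (b &&& nbMask) = true
  | [], S, hc, hd => by
    simp only [stepsOK, beq_iff_eq] at hc
    subst hc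
    exact hd
  | s :: r, S, hc, hd => by
    simp only [stepsOK, Bool.and_eq_true, beq_iff_eq] at hc
    obtain ⟨⟨⟨-, h2⟩, h3⟩, h4⟩ := hc
    simp only [List.all_eq_true, beq_iff_eq] at h2 h3
    refine dfs_sound hB hb r _ h4 ?_
    have hok : s.2.all (notMono (b &&& (S ||| 2 ^ s.1))) = true := by
      refine List.all_eq_true.2 fun t ht => ?_
      obtain ⟨n1, n2⟩ := notMono_of_hemi hB hb (h3 t ht)
      have e : b &&& (S ||| 2 ^ s.1) &&& t = b &&& t := by
        rw [Nat.and_assoc, Nat.and_comm (S ||| 2 ^ s.1), h2 t ht]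
      simp only [notMono, e, Bool.and_eq_true, Bool.not_eq_true']
      exact ⟨Bool.eq_false_iff.2 fun h => n1 (Nat.eq_of_beq_eq_true h),
        Bool.eq_false_iff.2 fun h => n2 (Nat.eq_of_beq_eq_true h)⟩
    simp only [dfs, Bool.and_eq_true, Bool.or_eq_true, Bool.not_eq_true'] at hd
    rw [Nat.and_or_distrib_left, Nat.and_two_pow] at hok ⊢
    cases hbit : b.testBit s.1
    · simp only [hbit, Bool.toNat_false, Nat.zero_mul, Nat.or_zero] at hok ⊢
      exact hd.1.resolve_left (by simp [hok])
    · simp only [hbit, Bool.toNat_true, Nat.one_mul] at hok ⊢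
      exact hd.2.resolve_left (by simp [hok])

/-- Every hemisystem belongs to one of the four families. -/
theorem exists_famSet {B : Finset Pt} (hB : IsHemi B) : ∃ k i, B = famSet k i := by
  let b : ℕ := Nat.ofBits fun x : Pt => decide (x ∈ B)
  have hb : ∀ x : Pt, b.testBit (x : ℕ) = decide (x ∈ B) := fun x =>
    Nat.testBit_ofBits_lt _ _ x.2
  have hS : bitSet b = B := by ext x; simp [hb]
  have h := dfs_sound hB hb searchSteps 0 steps_ok (by rw [Nat.and_zero]; exact search_ok)
  simp only [inFam, List.any_eq_true] at h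
  obtain ⟨l, hl, m, hm, he⟩ := h
  obtain ⟨k, hk, rfl⟩ := List.mem_iff_getElem.1 hl
  obtain ⟨i, hi, rfl⟩ := List.mem_iff_getElem.1 hm
  have hk4 : k < 4 := by
    have : allFamilies.length = 4 := by simp [allFamilies, sigmas_ok.2.2.1]
    omega
  have hi' : i < 162 := by
    rcases Nat.eq_zero_or_pos k with rfl | hk0
    · simpa [allFamilies, star_ok.1] using hi
    · obtain ⟨j, rfl⟩ : ∃ j, k = j + 1 := ⟨k - 1, by omega⟩
      obtain ⟨l1, l2, l3, hall⟩ := sigmas_ok
      have hmem : (sigmas.getD j [], (sigmasInv.getD j [], famMasks.getD j [])) ∈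
          sigmas.zip (sigmasInv.zip famMasks) := by
        refine List.mem_iff_getElem.2 ⟨j, by simp [l1, l2, l3]; omega, ?_⟩
        simp [l1, l2, l3, show j < 3 by omega]
      have := List.all_eq_true.1 hall _ hmem
      simp only [sigmaOK, Bool.and_eq_true, beq_iff_eq] at this
      have hlen := this.1.1.1.1.1.2
      rw [List.getD_eq_getElem _ _ (show j < famMasks.length by omega)] at hlen
      simp only [allFamilies, List.getElem_cons_succ] at hi
      omega
  refine ⟨⟨k, hk4⟩, ⟨i, hi'⟩, ?_⟩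
  have e : famMask k i = (allFamilies[k])[i] := by
    simp [famMask, hk, hi]
    rfl
  show B = bitSet (famMask k i)
  have hm' : b &&& nbMask = famMask k i := (Nat.eq_of_beq_eq_true he).trans e.symm
  rw [← hm', bitSet_and, hS]
  exact (Finset.inter_eq_left.2 hB.1).symm

/-! ### Parameters -/

theorem star_zero_inter (i : Fin 162) :
    (starSet 0 ∩ starSet i).card = if i = 0 then 56 else
      if adj (farPt 0) (farPt i) then 20 else 32 := by
  rw [starSet_eq, starSet_eq, ← bitSet_and, card_bitSet]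
  have h := List.all_eq_true.1 star_ok.2.2.2 (starMask i, (i : ℕ)) (List.mem_zipIdx_iff_getElem?.2 (by
    show starMasks[(i : ℕ)]? = some (starMask i)
    rw [List.getElem?_eq_getElem (by rw [star_ok.1]; exact i.2)]
    simp [starMasks, starMask, mask, adjMasks_length, show 113 + (i : ℕ) < 275 by omega]))
  simp only [Bool.and_eq_true, beq_iff_eq] at h
  show bitCount (starMask ((0 : Fin 162) : ℕ) &&& _) = _
  rw [Fin.val_zero, h.2]
  by_cases hi : i = 0
  · subst hi; simp
  · have : (i : ℕ) ≠ 0 := fun e => hi (Fin.ext e)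
    simp only [this, hi, if_false, adj, farPt, Fin.val_zero, Nat.add_zero]
    rfl

theorem card_starSet_inter (i j : Fin 162) :
    (starSet i ∩ starSet j).card = if j = i then 56 else
      if adj (farPt i) (farPt j) then 20 else 32 := by
  obtain ⟨u, hu, he⟩ := exists_mclStab_far i 0
  obtain ⟨j', hj'⟩ := exists_far_image hu j
  rw [← Finset.card_smul_finset u, Finset.smul_finset_inter, smul_starSet hu he,
    smul_starSet hu hj', star_zero_inter, ← mclStab_adj hu (farPt i) (farPt j), he, hj']
  by_cases h : j = i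
  · subst h
    have : j' = 0 := Fin.ext (by
      have := congrArg Fin.val (hj'.symm.trans he)
      simp [farPt] at this
      simp [this])
    simp [this]
  · have : j' ≠ 0 := by
      rintro rfl
      exact h (Fin.ext (by
        have := congrArg Fin.val (u.injective (hj'.trans he.symm))
        simp only [farPt] at this
        omega))
    simp [h, this]

theorem card_starSet_adj {i : Fin 162} {p : Pt} (hp : p ∈ starSet i) :
    ((starSet i).filter fun y => adj p y = true).card = 10 := by
  obtain ⟨u, hu, he⟩ := exists_mclStab_far i 0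
  have hp' : u p ∈ starSet 0 := smul_starSet hu he ▸ Finset.smul_mem_smul_finset hp
  have h0 : ((starSet 0).filter fun y => adj (u p) y = true).card = 10 := by
    rw [starSet_eq, Fin.val_zero] at hp' ⊢
    have h := List.all_eq_true.1 star_ok.2.2.1 (u p : ℕ) (List.mem_range.2 (u p).2)
    simp only [mem_bitSet.1 hp', Bool.not_true, Bool.false_or, beq_iff_eq] at h
    rw [← h, ← card_bitSet]
    congr 1
    ext y
    rw [Finset.mem_filter]
    simp only [mem_bitSet, adj, Nat.testBit_and, Bool.and_eq_true]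
    exact and_comm
  rw [← h0, ← smul_starSet hu he, ← Finset.card_smul_finset u]
  congr 1
  ext y
  rw [mem_smul_pt, Finset.mem_filter, Finset.mem_filter, mem_smul_pt,
    ← mclStab_adj hu p (u⁻¹ y), show u (u⁻¹ y) = y from u.apply_symm_apply y]

theorem card_starSet (i : Fin 162) : (starSet i).card = 56 := by
  have := card_starSet_inter i i
  simpa using this

theorem card_famSet {k : Fin 4} (i : Fin 162) : (famSet k i).card = 56 := by
  obtain ⟨s, -, hs⟩ := exists_keepsNb_famSet k
  rw [hs, Finset.card_smul_finset, card_starSet]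

theorem card_famSet_adj {k : Fin 4} {i : Fin 162} {p : Pt} (hp : p ∈ famSet k i) :
    ((famSet k i).filter fun y => adj p y = true).card = 10 := by
  obtain ⟨s, hs, hf⟩ := exists_keepsNb_famSet k
  rw [hf] at hp ⊢
  rw [mem_smul_pt] at hp
  rw [← card_starSet_adj hp, ← Finset.card_smul_finset s
    ((starSet i).filter fun y => adj (s⁻¹ p) y = true)]
  congr 1
  ext y
  rw [Finset.mem_filter, mem_smul_pt, mem_smul_pt, Finset.mem_filter]
  refine and_congr_right fun hy => ?_
  have h1 := (Finset.mem_filter.1 hp).1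
  have h2 := (Finset.mem_filter.1 hy).1
  rw [← hs.2 _ h1 _ h2, show s (s⁻¹ p) = p from s.apply_symm_apply p,
    show s (s⁻¹ y) = y from s.apply_symm_apply y]

theorem card_famSet_inter (k : Fin 4) (i j : Fin 162) :
    (famSet k i ∩ famSet k j).card = if j = i then 56 else
      if adj (farPt i) (farPt j) then 20 else 32 := by
  obtain ⟨s, -, hs⟩ := exists_keepsNb_famSet k
  rw [hs, hs, ← Finset.smul_finset_inter, Finset.card_smul_finset, card_starSet_inter]

/-! ### The families under the stabiliser -/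

/-- The meeting numbers inside a family. -/
def Rel (B C : Finset Pt) : Prop :=
  (B ∩ C).card = 56 ∨ (B ∩ C).card = 20 ∨ (B ∩ C).card = 32

theorem rel_smul (s : Equiv.Perm Pt) (B C : Finset Pt) : Rel (s • B) (s • C) ↔ Rel B C := by
  rw [Rel, ← Finset.smul_finset_inter, Finset.card_smul_finset, Rel]

theorem rel_famSet (k : Fin 4) (i j : Fin 162) : Rel (famSet k i) (famSet k j) := by
  rw [Rel, card_famSet_inter]
  split_ifs <;> simp

theorem eq_starSet_of_rel {C : Finset Pt} (hC : IsHemi C) {i : Fin 162}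
    (h : Rel (starSet i) C) : ∃ j, C = starSet j := by
  obtain ⟨u, hu, he⟩ := exists_mclStab_far i 0
  have h' : Rel (starSet 0) (u • C) := by rw [← smul_starSet hu he, rel_smul]; exact h
  obtain ⟨k, j, hj⟩ := exists_famSet (hC.smul (keepsNb_of_mem hu))
  have hk : k = 0 := by
    by_contra hk
    obtain ⟨s, -, hs⟩ := exists_sigma_fam k
    have hmem := (hs j).2 hk
    have hr := rel_ok
    simp only [List.all_eq_true, Bool.not_eq_true'] at hr
    have hlt : (k : ℕ) - 1 < famMasks.length := by
      rw [sigmas_ok.2.2.1]; omega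
    rw [List.getD_eq_getElem _ _ hlt] at hmem
    have := hr _ (List.getElem_mem hlt) _ hmem
    rw [hj, famSet, starSet_eq, Rel, ← bitSet_and, card_bitSet, Fin.val_zero] at h'
    rcases h' with h' | h' | h' <;> rw [h'] at this <;> simp at this
  subst hk
  rw [famSet_zero] at hj
  obtain ⟨j', hj'⟩ := exists_far_image (inv_mem hu) j
  exact ⟨j', by rw [← smul_starSet (inv_mem hu) hj', ← hj, inv_smul_smul]⟩

theorem eq_famSet_of_rel {C : Finset Pt} (hC : IsHemi C) {k : Fin 4} {i : Fin 162}
    (h : Rel (famSet k i) C) : ∃ j, C = famSet k j := by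
  obtain ⟨s, hs, hf⟩ := exists_keepsNb_famSet k
  rw [hf, ← rel_smul s⁻¹, inv_smul_smul] at h
  obtain ⟨j, hj⟩ := eq_starSet_of_rel (hC.smul hs.inv) h
  exact ⟨j, by rw [hf, ← hj, smul_inv_smul]⟩

/-- The hemisystems related to one of them. -/
def relClass (B : Finset Pt) : Set (Finset Pt) := {C | IsHemi C ∧ Rel B C}

theorem relClass_smul {u : Equiv.Perm Pt} (hu : u ∈ mclStab) (B : Finset Pt) :
    u • relClass B = relClass (u • B) := by
  ext C
  rw [Set.mem_smul_set_iff_inv_smul_mem]
  show IsHemi (u⁻¹ • C) ∧ Rel B (u⁻¹ • C) ↔ IsHemi C ∧ Rel (u • B) C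
  rw [← rel_smul u B, smul_inv_smul]
  refine and_congr_left fun _ => ⟨fun h => ?_, fun h => h.smul (keepsNb_of_mem (inv_mem hu))⟩
  simpa using h.smul (keepsNb_of_mem hu)

theorem relClass_famSet (k : Fin 4) (i j : Fin 162) :
    relClass (famSet k i) = relClass (famSet k j) := by
  ext C
  constructor <;> rintro ⟨h1, h2⟩ <;> obtain ⟨l, rfl⟩ := eq_famSet_of_rel h1 h2 <;>
    exact ⟨h1, rel_famSet k _ _⟩

/-- A simple group of order above `24` has no proper subgroup of index at most four. -/
theorem eq_top_of_index_le_four {S : Type*} [Group S] [IsSimpleGroup S] [Finite S]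
    (hc : 24 < Nat.card S) {K : Subgroup S} (hK : K.index ≤ 4) : K = ⊤ := by
  rcases IsSimpleGroup.eq_bot_or_eq_top_of_normal K.normalCore inferInstance with h | h
  · exfalso
    have h' : K.normalCore.index ∣ K.index.factorial := by
      rw [K.normalCore_eq_ker, Subgroup.index_ker, Subgroup.index, ← Nat.card_perm]
      exact Subgroup.card_subgroup_dvd_card _
    rw [h, Subgroup.index_bot] at h'
    have := Nat.le_of_dvd (Nat.factorial_pos _) h'
    have : K.index.factorial ≤ Nat.factorial 4 := Nat.factorial_le hK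
    simp [Nat.factorial] at this
    omega
  · exact top_le_iff.1 (h ▸ K.normalCore_le)

/-- The stabiliser keeps each family. -/
theorem mclStab_famSet {u : Equiv.Perm Pt} (hu : u ∈ mclStab) {k : Fin 4} {i : Fin 162}
    (hH : IsHemi (famSet k i)) : ∃ j, u • famSet k i = famSet k j := by
  set X := relClass (famSet k i) with hX
  have := isSimpleGroup_mclStab
  have hsub : MulAction.orbit mclStab X ⊆ Set.range fun l : Fin 4 => relClass (famSet l 0) := by
    rintro _ ⟨v, rfl⟩
    obtain ⟨l, j, hj⟩ := exists_famSet (hH.smul (keepsNb_of_mem v.2))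
    refine ⟨l, ?_⟩
    show _ = (v : Equiv.Perm Pt) • X
    rw [relClass_smul v.2, hj]
    exact relClass_famSet l 0 j
  have hidx : (MulAction.stabilizer mclStab X).index ≤ 4 := by
    rw [MulAction.index_stabilizer]
    refine le_trans (Set.ncard_le_ncard hsub (Set.finite_range _)) ?_
    rw [← Set.image_univ]
    exact le_trans (Set.ncard_image_le Set.finite_univ) (by simp)
  have htop := eq_top_of_index_le_four (by rw [natCard_mclStab]; norm_num) hidx
  have hfix : (⟨u, hu⟩ : mclStab) • X = X :=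
    MulAction.mem_stabilizer_iff.1 (htop ▸ Subgroup.mem_top _)
  change u • X = X at hfix
  have hmem : u • famSet k i ∈ u • X :=
    Set.smul_mem_smul_set ⟨hH, rel_famSet k i i⟩
  rw [hfix] at hmem
  exact eq_famSet_of_rel hmem.1 hmem.2

end Cfsg.Agent.McLRankThree
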