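import Cfsg.Agent.Lib.McLRankThree.Hemi

/-!
# The neighbourhood graph and its point stabilisers

* `card_nbAdj`, `card_nbFar`, `card_nbAdj_inter`, `adj_of_mem_inter` : parameters
* `exists_fixed_nb` : a subgroup of order 29160 of the point stabiliser fixes a neighbour
-/

set_option autoImplicit false

open scoped Pointwise

namespace Cfsg.Agent.McLRankThree

open MulAction Leech

attribute [local irreducible] bitSet nb

theorem exists_to_one {x : Pt} (hx : x ∈ nb) : ∃ u ∈ mclStab, u x = 1 := by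
  refine exists_mclStab_map ?_ (by decide) (iff_of_true hx one_mem_nb)
  rintro rfl
  simp [mem_nb, adj_self] at hx

theorem smul_nbAdj {u : Equiv.Perm Pt} (hu : u ∈ mclStab) (x : Pt) :
    u • nbAdj x = nbAdj (u x) := by
  ext y
  rw [mem_smul_pt]
  unfold nbAdj
  rw [Finset.mem_filter, Finset.mem_filter, mclStab_nb (inv_mem hu), ← mclStab_adj hu x (u⁻¹ y),
    show u (u⁻¹ y) = y from u.apply_symm_apply y]

theorem card_nbAdj {x : Pt} (hx : x ∈ nb) : (nbAdj x).card = 30 := by
  obtain ⟨u, hu, he⟩ := exists_to_one hx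
  rw [← Finset.card_smul_finset u, smul_nbAdj hu, he, card_nbAdj_one]

theorem card_nbFar_eq {x : Pt} (hx : x ∈ nb) : (nbFar x).card = 81 := by
  have := card_nbFar hx
  rw [card_nbAdj hx] at this
  omega

theorem nbAdj_inter_one {y : Pt} : nbAdj 1 ∩ nbAdj y = bitSet (mask 1 &&& mask y &&& nbMask) := by
  ext z
  unfold nbAdj
  rw [Finset.mem_inter, Finset.mem_filter, Finset.mem_filter]
  simp only [nb, adj, mem_bitSet, Nat.testBit_and, Bool.and_eq_true, Fin.val_one]
  tauto

theorem one_facts {y : Pt} (hy : y ∈ nb) (h : adj 1 y = true) :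
    (nbAdj 1 ∩ nbAdj y).card = 2 ∧
      ∀ z ∈ nbAdj 1 ∩ nbAdj y, ∀ w ∈ nbAdj 1 ∩ nbAdj y, z ≠ w → adj z w = true := by
  have hc := List.all_eq_true.1 local_ok.2.2.2.2.2 (y : ℕ) (List.mem_range.2 y.2)
  have e : (mask 1 &&& nbMask).testBit (y : ℕ) = true := by
    rw [Nat.testBit_and, Bool.and_eq_true]
    exact ⟨h, mem_bitSet.1 (by rwa [nb] at hy)⟩
  simp only [e, Bool.not_true, Bool.false_or, Bool.and_eq_true, beq_iff_eq] at hc
  rw [nbAdj_inter_one, card_bitSet]
  refine ⟨hc.1, fun z hz w hw hne => ?_⟩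
  have h1 := List.all_eq_true.1 hc.2 (z : ℕ) (List.mem_range.2 z.2)
  simp only [mem_bitSet.1 hz, Bool.not_true, Bool.false_or] at h1
  have h2 := List.all_eq_true.1 h1 (w : ℕ) (List.mem_range.2 w.2)
  simp only [mem_bitSet.1 hw, Bool.not_true, Bool.false_or, Bool.or_eq_true, beq_iff_eq] at h2
  exact h2.resolve_left fun e' => hne (Fin.ext e')

theorem card_nbAdj_inter {x y : Pt} (hx : x ∈ nb) (hy : y ∈ nb) (hne : x ≠ y) :
    (nbAdj x ∩ nbAdj y).card = if adj x y then 2 else 10 := by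
  obtain ⟨u, hu, he⟩ := exists_to_one hx
  have hy' := (mclStab_nb hu).2 hy
  have hne' : u y ≠ 1 := fun e => hne (u.injective (he.trans e.symm))
  have hadj : adj 1 (u y) = adj x y := by rw [← he, mclStab_adj hu]
  rw [← Finset.card_smul_finset u, Finset.smul_finset_inter, smul_nbAdj hu, smul_nbAdj hu, he]
  cases h : adj x y
  · have h4n : (4 : Pt) ∈ nb := by decide +kernel
    have h4 : adj 1 4 = false := local_ok.2.2.2.2.1
    obtain ⟨v, hv, v1, v4⟩ := exists_fix_one_map hy' h4n hne' (by decide)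
      (by rw [hadj, h, h4])
    rw [← Finset.card_smul_finset v, Finset.smul_finset_inter, smul_nbAdj hv, smul_nbAdj hv,
      v1, v4, nbAdj_inter_one, card_bitSet]
    simpa using local_ok.2.2.2.1
  · simpa using (one_facts hy' (hadj.trans h)).1

theorem adj_of_mem_inter {x y z w : Pt} (hx : x ∈ nb) (hy : y ∈ nb) (h : adj x y = true)
    (hz : z ∈ nbAdj x ∩ nbAdj y) (hw : w ∈ nbAdj x ∩ nbAdj y) (hne : z ≠ w) :
    adj z w = true := by
  obtain ⟨u, hu, he⟩ := exists_to_one hx
  have key : ∀ t ∈ nbAdj x ∩ nbAdj y, u t ∈ nbAdj 1 ∩ nbAdj (u y) := fun t ht => by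
    rw [← he, ← smul_nbAdj hu, ← smul_nbAdj hu, ← Finset.smul_finset_inter]
    exact Finset.smul_mem_smul_finset ht
  have hadj : adj 1 (u y) = true := by rw [← he, mclStab_adj hu]; exact h
  rw [← mclStab_adj hu]
  exact (one_facts ((mclStab_nb hu).2 hy) hadj).2 _ (key z hz) _ (key w hw)
    fun e => hne (u.injective e)

/-- A clique of neighbours has at most four points. -/
theorem card_clique_le {O : Finset Pt} (hO : O ⊆ nb)
    (hcl : ∀ a ∈ O, ∀ b ∈ O, a ≠ b → adj a b = true) : O.card ≤ 4 := by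
  by_cases h : O.card ≤ 1
  · omega
  obtain ⟨x, hx, y, hy, hne⟩ := Finset.one_lt_card.1 (by omega : 1 < O.card)
  have hsub : O ⊆ insert x (insert y (nbAdj x ∩ nbAdj y)) := by
    intro z hz
    by_cases h1 : z = x
    · simp [h1]
    by_cases h2 : z = y
    · simp [h2]
    simp [nbAdj, hO hz, hcl x hx z hz (Ne.symm h1), hcl y hy z hz (Ne.symm h2)]
  refine le_trans (Finset.card_le_card hsub) ?_
  have := card_nbAdj_inter (hO hx) (hO hy) hne
  rw [hcl x hx y hy hne, if_pos rfl] at this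
  have a1 := Finset.card_insert_le x (insert y (nbAdj x ∩ nbAdj y))
  have a2 := Finset.card_insert_le y (nbAdj x ∩ nbAdj y)
  omega

/-- Adjacent neighbours lie in a four-clique. -/
theorem exists_quad {x y : Pt} (hx : x ∈ nb) (hy : y ∈ nb) (h : adj x y = true) :
    ∃ L, IsQuad L ∧ x ∈ L ∧ y ∈ L := by
  have hne : x ≠ y := by rintro rfl; simp [adj_self] at h
  refine ⟨insert x (insert y (nbAdj x ∩ nbAdj y)), ⟨?_, ?_, ?_⟩, by simp, by simp⟩
  · intro z hz
    simp [nbAdj] at hz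
    rcases hz with rfl | rfl | ⟨⟨h1, -⟩, -⟩
    exacts [hx, hy, h1]
  · have hc := card_nbAdj_inter hx hy hne
    rw [h, if_pos rfl] at hc
    rw [Finset.card_insert_of_notMem, Finset.card_insert_of_notMem, hc]
    · simp [nbAdj, adj_self]
    · simp [nbAdj, adj_self, hne]
  · intro z hz w hw hzw
    simp only [Finset.mem_insert] at hz hw
    have m : ∀ t ∈ nbAdj x ∩ nbAdj y, adj x t = true ∧ adj y t = true := fun t ht => by
      simp [nbAdj] at ht
      exact ⟨ht.1.2, ht.2.2⟩
    rcases hz with rfl | rfl | hz <;> rcases hw with rfl | rfl | hw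
    · exact absurd rfl hzw
    · exact h
    · exact (m w hw).1
    · rw [adj_comm]; exact h
    · exact absurd rfl hzw
    · exact (m w hw).2
    · rw [adj_comm]; exact (m z hz).1
    · rw [adj_comm]; exact (m z hz).2
    · exact adj_of_mem_inter hx hy h hz hw hzw

theorem natCard_mclStab_fix {x : Pt} (hx : x ∈ nb) :
    Nat.card ↥(mclStab ⊓ stabilizer (Equiv.Perm Pt) x) = 29160 := by
  have h := ncard_orbit_mul mclStab x
  have e : {y | ∃ a ∈ mclStab, a • x = y} = (nb : Set Pt) := by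
    ext y
    refine ⟨?_, fun hy => ?_⟩
    · rintro ⟨a, ha, rfl⟩; exact (mclStab_nb ha).2 hx
    · obtain ⟨u, hu, hux⟩ := exists_to_one hx
      obtain ⟨v, hv, hvy⟩ := exists_to_one (Finset.mem_coe.1 hy)
      refine ⟨v⁻¹ * u, mul_mem (inv_mem hv) hu, ?_⟩
      show v⁻¹ (u x) = y
      rw [hux, ← hvy]; exact v.symm_apply_apply y
  rw [e, Set.ncard_coe_finset, card_nb, natCard_mclStab] at h
  omega

theorem natCard_mclStab_fix_two {x z : Pt} (hx : x ∈ nb) (hz : z ∈ nb) (hne : z ≠ x) :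
    (if adj x z then 30 else 81) *
      Nat.card ↥(mclStab ⊓ stabilizer (Equiv.Perm Pt) x ⊓ stabilizer (Equiv.Perm Pt) z) = 29160 := by
  have h := ncard_orbit_mul (mclStab ⊓ stabilizer (Equiv.Perm Pt) x) z
  have e : {y | ∃ a ∈ mclStab ⊓ stabilizer (Equiv.Perm Pt) x, a • z = y} =
      ((nb.filter fun y => y ≠ x ∧ adj x y = adj x z : Finset Pt) : Set Pt) := by
    ext y
    simp only [Finset.coe_filter, Set.mem_ofPred_eq]
    constructor
    · rintro ⟨a, ⟨ha, hax⟩, rfl⟩
      have hax' : a x = x := hax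
      refine ⟨(mclStab_nb ha).2 hz, fun e => hne (a.injective (e.trans hax'.symm)), ?_⟩
      show adj x (a z) = _
      rw [← mclStab_adj ha x z, hax']
    · rintro ⟨h1, h2, h3⟩
      obtain ⟨u, hu, ux, uz⟩ := mclStab_two_point hx hz h1 hne h2 h3.symm
      exact ⟨u, ⟨hu, ux⟩, uz⟩
  rw [e, Set.ncard_coe_finset, natCard_mclStab_fix hx] at h
  cases ha : adj x z
  · have : (nb.filter fun y => y ≠ x ∧ adj x y = adj x z) = nbFar x := by
      rw [nbFar, ha]
    rw [this, card_nbFar_eq hx] at h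
    simpa using h
  · have : (nb.filter fun y => y ≠ x ∧ adj x y = adj x z) = nbAdj x := by
      ext y
      simp only [nbAdj, Finset.mem_filter, ha]
      refine ⟨fun h => ⟨h.1, h.2.2⟩, fun h => ⟨h.1, ?_, h.2⟩⟩
      rintro rfl
      simp [adj_self] at h
    rw [this, card_nbAdj hx] at h
    simpa using h

/-- A subgroup of order `29160` of the point stabiliser fixes a neighbour. -/
theorem exists_fixed_nb {H : Subgroup (Equiv.Perm Pt)} (hle : H ≤ mclStab)
    (hcard : Nat.card H = 29160) : ∃ x ∈ nb, ∀ h ∈ H, h x = x := by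
  classical
  obtain ⟨P⟩ := (inferInstance : Nonempty (Sylow 3 H))
  let A : SubMulAction ↥(P : Subgroup H) Pt :=
    { carrier := (nb : Set Pt)
      smul_mem' := fun p x hx => (mclStab_nb (hle p.1.2)).2 hx }
  have : Fact (Nat.Prime 3) := ⟨by norm_num⟩
  have hA : Nat.card A = 112 := by
    show Nat.card ↥(nb : Set Pt) = 112
    rw [Nat.card_coe_set_eq, Set.ncard_coe_finset, card_nb]
  obtain ⟨⟨y, hy⟩, hfix⟩ := P.isPGroup'.nonempty_fixed_point_of_prime_not_dvd_card A
    (by rw [hA]; norm_num)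
  have hyn : y ∈ nb := hy
  -- orbit and stabiliser of `y`
  set Hy := H ⊓ stabilizer (Equiv.Perm Pt) y with hHy
  let O : Finset Pt := Finset.univ.filter fun z => ∃ h ∈ H, h • y = z
  have hO : ∀ z, z ∈ O ↔ ∃ h ∈ H, h • y = z := fun z => by simp [O]
  have hyO : y ∈ O := (hO y).2 ⟨1, one_mem _, rfl⟩
  have hOm : O.card * Nat.card Hy = 29160 := by
    rw [← hcard, ← ncard_orbit_mul H y, ← Set.ncard_coe_finset]
    congr 2
    ext z; simp [hO]
  have h729 : 729 ∣ Nat.card Hy := by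
    have hP : Nat.card (P : Subgroup H) = 729 := by
      rw [P.card_eq_multiplicity, hcard,
        show (29160 : ℕ) = 3 ^ 6 * 40 by norm_num, Nat.factorization_mul (by norm_num) (by norm_num),
        Nat.Prime.factorization_pow (by norm_num)]
      simp [Nat.factorization_eq_zero_of_not_dvd (show ¬ 3 ∣ 40 by norm_num)]
    rw [← hP, Nat.card_congr (Subgroup.equivMapOfInjective (P : Subgroup H) H.subtype
      H.subtype_injective).toEquiv]
    refine Subgroup.card_dvd_of_le ?_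
    rintro _ ⟨p, hp, rfl⟩
    refine ⟨p.2, ?_⟩
    exact congrArg Subtype.val (hfix ⟨p, hp⟩)
  have hHyle : Hy ≤ mclStab ⊓ stabilizer (Equiv.Perm Pt) y := inf_le_inf_right _ hle
  have hOn : O ⊆ nb := fun z hz => by
    obtain ⟨h, hh, rfl⟩ := (hO z).1 hz
    exact (mclStab_nb (hle hh)).2 hyn
  have ho40 : O.card ≤ 40 := by
    obtain ⟨m, hm⟩ := h729
    rw [hm, show O.card * (729 * m) = 729 * (O.card * m) by ring] at hOm
    have hm0 : m ≠ 0 := by rintro rfl; simp at hOm
    have h2 : O.card * m = 40 := by omega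
    calc O.card = O.card * 1 := (mul_one _).symm
      _ ≤ O.card * m := Nat.mul_le_mul_left _ (Nat.pos_of_ne_zero hm0)
      _ = 40 := h2
  -- the orbits of `Hy` on the rest of `O`
  have horb : ∀ z ∈ O, z ≠ y → ∃ o, o + 1 ≤ O.card ∧ 0 < o ∧
      (if adj y z then 3 else 81) ∣ o := by
    intro z hz hne
    let o := {w | ∃ h ∈ Hy, h • z = w}.ncard
    have ho : o * Nat.card ↥(Hy ⊓ stabilizer (Equiv.Perm Pt) z) = Nat.card Hy := ncard_orbit_mul Hy z
    have hdiv : Nat.card ↥(Hy ⊓ stabilizer (Equiv.Perm Pt) z) ∣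
        Nat.card ↥(mclStab ⊓ stabilizer (Equiv.Perm Pt) y ⊓ stabilizer (Equiv.Perm Pt) z) :=
      Subgroup.card_dvd_of_le (inf_le_inf_right _ hHyle)
    have h2 := natCard_mclStab_fix_two hyn (hOn hz) hne
    refine ⟨o, ?_, ?_, ?_⟩
    · rw [← Finset.card_erase_add_one hyO]
      refine Nat.add_le_add_right ?_ 1
      rw [← Set.ncard_coe_finset]
      refine Set.ncard_le_ncard ?_ (Finset.finite_toSet _)
      rintro _ ⟨h, hh, rfl⟩
      obtain ⟨g, hg, rfl⟩ := (hO z).1 hz
      refine Finset.mem_erase.2 ⟨fun e => hne ?_, (hO _).2 ⟨h * g, mul_mem hh.1 hg, mul_smul _ _ _⟩⟩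
      have hy' : h y = y := hh.2
      exact h.injective (e.trans hy'.symm)
    · exact Nat.pos_of_ne_zero fun e0 => by
        rw [e0, Nat.zero_mul] at ho
        have := h729; have : 0 < Nat.card Hy := Nat.card_pos; omega
    · have h3 : 729 ∣ o * Nat.card ↥(mclStab ⊓ stabilizer (Equiv.Perm Pt) y ⊓
          stabilizer (Equiv.Perm Pt) z) := (ho ▸ h729).trans (Nat.mul_dvd_mul_left o hdiv)
      cases ha : adj y z <;> simp only [ha, if_true, if_false, Bool.false_eq_true] at h2 ⊢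
      · rw [show Nat.card ↥(mclStab ⊓ stabilizer (Equiv.Perm Pt) y ⊓
          stabilizer (Equiv.Perm Pt) z) = 360 by omega] at h3
        omega
      · rw [show Nat.card ↥(mclStab ⊓ stabilizer (Equiv.Perm Pt) y ⊓
          stabilizer (Equiv.Perm Pt) z) = 972 by omega] at h3
        omega
  have hyadj : ∀ z ∈ O, z ≠ y → adj y z = true := fun z hz hne => by
    obtain ⟨o, h1, h2, h3⟩ := horb z hz hne
    cases ha : adj y z with
    | true => rfl
    | false =>
      rw [ha] at h3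
      simp only [Bool.false_eq_true, if_false] at h3
      have := Nat.le_of_dvd h2 h3
      omega
  by_cases hone : O.card = 1
  · refine ⟨y, hyn, fun h hh => ?_⟩
    exact Finset.card_le_one.1 hone.le _ ((hO _).2 ⟨h, hh, rfl⟩) _ hyO
  exfalso
  have hclique : ∀ a ∈ O, ∀ b ∈ O, a ≠ b → adj a b = true := by
    intro a ha b hb hab
    obtain ⟨g, hg, rfl⟩ := (hO a).1 ha
    obtain ⟨k, hk, rfl⟩ := (hO b).1 hb
    have hm : g⁻¹ • k • y ∈ O := (hO _).2 ⟨g⁻¹ * k, mul_mem (inv_mem hg) hk, mul_smul _ _ _⟩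
    have := hyadj _ hm fun e => hab ((inv_smul_eq_iff.1 e).symm)
    rw [← mclStab_adj (hle hg)] at this
    simpa using this
  have h4 : O.card = 4 := by
    have hle4 := card_clique_le hOn hclique
    have h1O : 1 < O.card := by
      have : 0 < O.card := Finset.card_pos.2 ⟨y, hyO⟩
      omega
    obtain ⟨z, hz, hne⟩ := Finset.exists_mem_ne h1O y
    obtain ⟨o, h1, h2, h3⟩ := horb z hz hne
    rw [hyadj z hz hne, if_pos rfl] at h3
    have := Nat.le_of_dvd h2 h3
    omega
  -- the orbit of the four-clique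
  have hfixO : H ≤ stabilizer (Equiv.Perm Pt) O := fun h hh => by
    refine MulAction.mem_stabilizer_iff.2 (Finset.eq_of_subset_of_card_le ?_
      (by rw [Finset.card_smul_finset]))
    intro w hw
    obtain ⟨g, hg, e⟩ := (hO _).1 (Finset.inv_smul_mem_iff.2 hw)
    exact (hO _).2 ⟨h * g, mul_mem hh hg, by rw [mul_smul, e, smul_inv_smul]⟩
  let Orb : Set (Finset Pt) := {L | ∃ u ∈ mclStab, u • O = L}
  have hOrb : Orb.ncard ≤ 112 := by
    have hm := ncard_orbit_mul mclStab O
    change Orb.ncard * _ = _ at hm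
    have h1 : 29160 ∣ Nat.card ↥(mclStab ⊓ stabilizer (Equiv.Perm Pt) O) :=
      hcard ▸ Subgroup.card_dvd_of_le (le_inf hle hfixO)
    obtain ⟨m, hm'⟩ := h1
    rw [hm', natCard_mclStab, show Orb.ncard * (29160 * m) = 29160 * (Orb.ncard * m) by ring] at hm
    have hm0 : m ≠ 0 := by rintro rfl; simp at hm
    have := Nat.le_mul_of_pos_right Orb.ncard (Nat.pos_of_ne_zero hm0)
    omega
  have hfin : Orb.Finite := Set.toFinite _
  let OrbF := hfin.toFinset
  have hpairs : (nb.sigma fun x => nbAdj x).card ≤ (OrbF.sigma fun L => L.offDiag).card := by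
    obtain ⟨z, hz, hne⟩ := Finset.exists_mem_ne (by omega : 1 < O.card) y
    refine Finset.card_le_card_of_surjOn (fun q => ⟨q.2.1, q.2.2⟩) ?_
    show Set.SurjOn _ _ _
    have hcov : ∀ p ∈ nb.sigma fun x => nbAdj x,
        ∃ q ∈ OrbF.sigma (fun L => L.offDiag), q.2 = (p.1, p.2) := by
      intro p hp
      simp only [Finset.mem_sigma, nbAdj, Finset.mem_filter] at hp
      obtain ⟨u, hu, uy⟩ := exists_to_one hyn
      obtain ⟨v, hv, vx⟩ := exists_to_one hp.1
      have hw : (v⁻¹ * u) ∈ mclStab := mul_mem (inv_mem hv) hu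
      have hwy : (v⁻¹ * u) y = p.1 := by
        show v⁻¹ (u y) = p.1
        rw [uy, ← vx]; exact v.symm_apply_apply _
      have hne' : (v⁻¹ * u) z ≠ p.1 := fun e => hne ((v⁻¹ * u).injective (e.trans hwy.symm))
      obtain ⟨t, ht, tx, tz⟩ := mclStab_two_point hp.1 ((mclStab_nb hw).2 (hOn hz)) hp.2.1 hne'
        (fun e => by simp [e, adj_self] at hp)
        (by rw [hp.2.2, ← hwy, mclStab_adj hw]; exact hyadj z hz hne)
      refine ⟨⟨(t * (v⁻¹ * u)) • O, (p.1, p.2)⟩, Finset.mem_sigma.2 ⟨hfin.mem_toFinset.2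
        ⟨_, mul_mem ht hw, rfl⟩, Finset.mem_offDiag.2 ⟨?_, ?_, fun e => ?_⟩⟩, rfl⟩
      · refine Finset.mem_smul_finset.2 ⟨y, hyO, ?_⟩
        show t ((v⁻¹ * u) y) = _
        rw [hwy, tx]
      · exact Finset.mem_smul_finset.2 ⟨z, hz, tz⟩
      · have e' : p.1 = p.2 := e
        simp [← e', adj_self] at hp
    intro p hp
    obtain ⟨q, hq, e⟩ := hcov p (Finset.mem_coe.1 hp)
    refine ⟨q, Finset.mem_coe.2 hq, ?_⟩
    show (⟨q.2.1, q.2.2⟩ : (_ : Pt) × Pt) = p
    rw [e]
  rw [Finset.card_sigma, Finset.card_sigma, Finset.sum_congr rfl fun x hx => card_nbAdj hx] at hpairs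
  have h12 : ∑ L ∈ OrbF, L.offDiag.card = ∑ L ∈ OrbF, 12 := Finset.sum_congr rfl fun L hL => by
    obtain ⟨u, -, rfl⟩ := hfin.mem_toFinset.1 hL
    rw [Finset.offDiag_card, Finset.card_smul_finset, h4]
  rw [h12] at hpairs
  simp only [Finset.sum_const, smul_eq_mul, card_nb] at hpairs
  have : OrbF.card ≤ 112 := by rwa [← Set.ncard_eq_toFinset_card Orb hfin]
  omega

end Cfsg.Agent.McLRankThree
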