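import Cfsg.Agent.Lib.McLRankThree.ChecksVectors
import Cfsg.Agent.Lib.McLRankThree.ChecksAut
import Cfsg.Agent.Lib.Leech.PSU43.Iso
import Cfsg.Agent.Lib.OutCert.McL
import Cfsg.Agent.Lib.Unitary.Simple

/-!
# The McLaughlin graph and its group

* `adj`, `autG`, `mcl`, `mclStab` : the graph, its automorphisms, `McL` and the point stabiliser
* `relIndex_mcl_le` : `McL` has index at most two in the automorphism group
* `mclStab_two_point` : the orbits of two-point stabilisers on the neighbours of `0`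
-/

set_option autoImplicit false

namespace Cfsg.Agent.McLRankThree

open Leech Leech.McLInvol MulAction

/-- The points. -/
abbrev Pt : Type := Fin 275

/-- Adjacency. -/
def adj (i j : Pt) : Bool := (mask (i : ℕ)).testBit j

/-- The set of a mask. -/
def bitSet (m : ℕ) : Finset Pt := Finset.univ.filter fun i => m.testBit (i : ℕ)

@[simp] theorem mem_bitSet {m : ℕ} {i : Pt} : i ∈ bitSet m ↔ m.testBit (i : ℕ) = true := by
  simp [bitSet]

theorem bitSet_and (a b : ℕ) : bitSet (a &&& b) = bitSet a ∩ bitSet b := by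
  ext i; simp

theorem card_bitSet (m : ℕ) : (bitSet m).card = bitCount m := by
  rw [bitCount, List.countP_eq_length_filter,
    ← List.toFinset_card_of_nodup (List.nodup_range.filter _)]
  refine Finset.card_bij (fun i _ => (i : ℕ)) (fun i hi => ?_) (fun a _ b _ h => Fin.ext h)
    fun b hb => ?_
  · simp only [List.mem_toFinset, List.mem_filter, List.mem_range]
    exact ⟨i.2, mem_bitSet.1 hi⟩
  · simp only [List.mem_toFinset, List.mem_filter, List.mem_range] at hb
    exact ⟨⟨b, hb.1⟩, mem_bitSet.2 hb.2, rfl⟩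

theorem bitSet_injOn {a b : ℕ} (ha : a < 2 ^ 275) (hb : b < 2 ^ 275) (h : bitSet a = bitSet b) :
    a = b := by
  refine Nat.eq_of_testBit_eq fun k => ?_
  by_cases hk : k < 275
  · have := Finset.ext_iff.1 h ⟨k, hk⟩
    simp only [mem_bitSet] at this
    exact Bool.eq_iff_iff.2 this
  · rw [Nat.testBit_lt_two_pow (ha.trans_le (Nat.pow_le_pow_right (by norm_num) (by omega))),
      Nat.testBit_lt_two_pow (hb.trans_le (Nat.pow_le_pow_right (by norm_num) (by omega)))]

/-! ### The vectors -/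

theorem dotL_eq_sum : ∀ (a b : List ℤ) (n : ℕ), a.length = n → b.length = n →
    dotL a b = ∑ k ∈ Finset.range n, a.getD k 0 * b.getD k 0
  | [], [], n, h, _ => by subst h; simp [dotL]
  | x :: a, y :: b, n, h, h' => by
    obtain ⟨m, rfl⟩ : ∃ m, n = m + 1 := ⟨a.length, by simpa using h.symm⟩
    rw [Finset.sum_range_succ', dotL,
      dotL_eq_sum a b m (by simpa using h) (by simpa using h')]
    simp only [List.getD_cons_succ, List.getD_cons_zero]
    ring
  | [], _ :: _, n, h, h' => by simp at h h'; omega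
  | _ :: _, [], n, h, h' => by simp at h h'; omega

theorem idx_injective : Function.Injective Golay.idx := by
  intro a b
  revert a b
  decide

theorem dotInt_vOf {a b : List ℤ} (ha : a.length = 24) (hb : b.length = 24) :
    dotInt (vOf a) (vOf b) = dotL a b := by
  rw [dotL_eq_sum a b 24 ha hb, dotInt]
  refine Finset.sum_bij (fun i _ => Golay.idx i) (fun i _ => Finset.mem_range.2 (Golay.idx_lt i))
    (fun a _ b _ h => idx_injective h) (fun k hk => ?_) fun i _ => rfl
  have h : ∀ k : Fin 24, ∃ i, Golay.idx i = (k : ℕ) := by decide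
  obtain ⟨i, hi⟩ := h ⟨k, Finset.mem_range.1 hk⟩
  exact ⟨i, Finset.mem_univ _, hi⟩

theorem vecs_length : vecs.length = 275 := vecs_ok.1

theorem adjMasks_length : adjMasks.length = 275 := vecs_ok.2.1

theorem vecL_eq (i : Pt) : vecL i = vecs[(i : ℕ)]'(by rw [vecs_length]; exact i.2) :=
  List.getD_eq_getElem _ _ _

theorem mask_eq (i : Pt) : mask i = adjMasks[(i : ℕ)]'(by rw [adjMasks_length]; exact i.2) :=
  List.getD_eq_getElem _ _ _

theorem mask_mem (i : Pt) : mask i ∈ adjMasks := mask_eq i ▸ List.getElem_mem _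

theorem vec_spec (i : Pt) : inLatL (vecL i) = true ∧ (vecL i).length = 24 ∧
    dotL (vecL i) (vecL i) = 32 ∧ dotL (vecL i) listF = 24 ∧ dotL (vecL i) listU = 16 := by
  have h := List.all_eq_true.1 vecs_ok.2.2 _ (vecL_eq i ▸ List.getElem_mem _)
  simp only [Bool.and_eq_true, beq_iff_eq] at h
  obtain ⟨⟨⟨h1, h2⟩, h3⟩, h4⟩ := h
  refine ⟨h1, ?_, h2, h3, h4⟩
  revert h1
  cases vecL i with
  | nil => simp [inLatL]
  | cons x l =>
    intro h1
    simp only [inLatL, Bool.and_eq_true, beq_iff_eq] at h1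
    exact h1.1.1

/-- The vector of a point. -/
def vert (i : Pt) : leechLattice := ⟨vOf (vecL i), mem_of_inLatL (vec_spec i).1⟩

theorem rowOK_spec {v : List ℤ} {m : ℕ} : ∀ {ws : List (List ℤ)} {j : ℕ}, rowOK v m ws j = true →
    ∀ k (hk : k < ws.length), (dotL v ws[k] = 8 ↔ m.testBit (j + k) = true)
  | w :: r, j, h, k, hk => by
    simp only [rowOK, Bool.and_eq_true, beq_iff_eq] at h
    cases k with
    | zero => simp [← h.1]
    | succ k =>
      rw [show j + (k + 1) = j + 1 + k by omega]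
      exact rowOK_spec h.2 k (by simpa using hk)

theorem adj_iff (i j : Pt) :
    adj i j = true ↔ dotInt (vert i : GolayPt → ℤ) (vert j : GolayPt → ℤ) = 8 := by
  show (mask (i : ℕ)).testBit j = true ↔ dotInt (vOf (vecL i)) (vOf (vecL j)) = 8
  rw [dotInt_vOf (vec_spec i).2.1 (vec_spec j).2.1, vecL_eq, vecL_eq, mask_eq]
  have hm : (vecs[(i : ℕ)]'(by rw [vecs_length]; exact i.2),
      adjMasks[(i : ℕ)]'(by rw [adjMasks_length]; exact i.2)) ∈ vecs.zip adjMasks :=
    List.mem_iff_getElem.2 ⟨i, by simp [vecs_length, adjMasks_length], by simp⟩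
  have := rowOK_spec (List.all_eq_true.1 rows_ok _ hm) j (by rw [vecs_length]; exact j.2)
  rw [Nat.zero_add] at this
  exact this.symm

theorem adj_comm (i j : Pt) : adj i j = adj j i :=
  Bool.eq_iff_iff.2 (by rw [adj_iff, adj_iff, dotInt_comm])

theorem adj_self (i : Pt) : adj i i = false := by
  refine Bool.eq_false_iff.2 fun h => ?_
  have h' := (adj_iff i i).1 h
  change dotInt (vOf (vecL i)) (vOf (vecL i)) = 8 at h'
  rw [dotInt_vOf (vec_spec i).2.1 (vec_spec i).2.1, (vec_spec i).2.2.1] at h'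
  norm_num at h'

theorem masks_lt : (adjMasks.all fun m => Nat.blt m (2 ^ 275)) = true := by decide +kernel

theorem mask_lt (i : Pt) : mask i < 2 ^ 275 := by
  simpa using List.all_eq_true.1 masks_lt _ (mask_mem i)

theorem eq_of_adj_eq {i j : Pt} (h : ∀ k, adj i k = adj j k) : i = j := by
  have h' : mask i = mask j := bitSet_injOn (mask_lt i) (mask_lt j) (by
    ext k; simp only [mem_bitSet]; exact Iff.of_eq (congrArg (· = true) (h k)))
  rw [mask_eq, mask_eq] at h'
  exact Fin.ext ((adjMasks_nodup.getElem_inj_iff).1 h')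

theorem vert_injective : Function.Injective vert := fun i j h =>
  eq_of_adj_eq fun k => Bool.eq_iff_iff.2 (by rw [adj_iff, adj_iff, h])

theorem vert_mem (i : Pt) : vert i ∈ mclBase := by
  obtain ⟨-, hl, h1, h2, h3⟩ := vec_spec i
  refine ⟨?_, ?_, ?_⟩
  · show sqNorm (vOf (vecL i)) = 32
    rw [← h1, ← dotInt_vOf hl hl]
    exact Finset.sum_congr rfl fun k _ => sq _
  · show dotInt (vOf (vecL i)) (baseF : GolayPt → ℤ) = 24
    rw [bases_ok.1.1, dotInt_vOf hl (by decide +kernel)]; exact h2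
  · show dotInt (vOf (vecL i)) (baseU : GolayPt → ℤ) = 16
    rw [bases_ok.1.2, dotInt_vOf hl (by decide +kernel)]; exact h3

theorem exists_vert {y : leechLattice} (hy : y ∈ mclBase) : ∃ i, vert i = y := by
  have h : Set.range vert = mclBase := by
    refine Set.eq_of_subset_of_ncard_le (Set.range_subset_iff.2 vert_mem) ?_
      (Set.finite_of_ncard_ne_zero (by rw [ncard_mclBase]; norm_num))
    rw [ncard_mclBase, ← Set.image_univ, Set.ncard_image_of_injective _ vert_injective,
      Set.ncard_univ, Nat.card_fin]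
  rw [← h] at hy
  exact hy

theorem vert_zero : vert 0 = baseX :=
  Subtype.ext (funext fun p => by revert p; decide +kernel)

/-! ### The group -/

theorem smul_mem_mclBase {g : Co0} (hg : g ∈ mclGroup) {y : leechLattice} (hy : y ∈ mclBase) :
    g • y ∈ mclBase :=
  ⟨by rw [sqNorm_smul]; exact hy.1, by rw [dotInt_smul_of_eq (mclGroup_fix hg).1]; exact hy.2.1,
    by rw [dotInt_smul_of_eq (mclGroup_fix hg).2]; exact hy.2.2⟩

/-- The image of a point. -/
noncomputable def actPt (g : mclGroup) (i : Pt) : Pt :=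
  (exists_vert (smul_mem_mclBase g.2 (vert_mem i))).choose

theorem vert_actPt (g : mclGroup) (i : Pt) : vert (actPt g i) = (g : Co0) • vert i :=
  (exists_vert (smul_mem_mclBase g.2 (vert_mem i))).choose_spec

theorem actPt_mul (g h : mclGroup) (i : Pt) : actPt (g * h) i = actPt g (actPt h i) :=
  vert_injective (by rw [vert_actPt, vert_actPt, vert_actPt, Subgroup.coe_mul, mul_smul])

theorem actPt_one (i : Pt) : actPt 1 i = i :=
  vert_injective (by rw [vert_actPt, OneMemClass.coe_one, one_smul])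

/-- The permutation representation. -/
noncomputable def actHom : mclGroup →* Equiv.Perm Pt where
  toFun g :=
    { toFun := actPt g
      invFun := actPt g⁻¹
      left_inv := fun i => by rw [← actPt_mul, inv_mul_cancel, actPt_one]
      right_inv := fun i => by rw [← actPt_mul, mul_inv_cancel, actPt_one] }
  map_one' := Equiv.ext actPt_one
  map_mul' g h := Equiv.ext (actPt_mul g h)

theorem exists_mclGroup_map (i : Pt) : ∃ g : mclGroup, actHom g 0 = i := by
  have h := vert_mem i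
  rw [← mclBase_orbit] at h
  obtain ⟨a, ha, he⟩ := h
  exact ⟨⟨a, ha⟩, vert_injective ((vert_actPt ⟨a, ha⟩ 0).trans (vert_zero ▸ he))⟩

theorem actHom_injective : Function.Injective actHom := by
  have := isSimpleGroup_mclGroup
  refine (MonoidHom.ker_eq_bot_iff _).1 ((IsSimpleGroup.eq_bot_or_eq_top_of_normal actHom.ker
    inferInstance).resolve_right fun h => ?_)
  obtain ⟨g, hg⟩ := exists_mclGroup_map 1
  rw [MonoidHom.ker_eq_top_iff.1 h] at hg
  exact absurd hg (by simp)

/-- The automorphisms of the graph. -/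
def autG : Subgroup (Equiv.Perm Pt) where
  carrier := {h | ∀ i j, adj (h i) (h j) = adj i j}
  one_mem' := fun _ _ => rfl
  mul_mem' := fun {a b} ha hb i j => (ha (b i) (b j)).trans (hb i j)
  inv_mem' := fun {a} ha i j => by
    have := ha (a⁻¹ i) (a⁻¹ j)
    simpa using this.symm

/-- The McLaughlin group on the graph. -/
noncomputable def mcl : Subgroup (Equiv.Perm Pt) := actHom.range

theorem mcl_le_autG : mcl ≤ autG := by
  rintro _ ⟨g, rfl⟩ i j
  exact Bool.eq_iff_iff.2 (by
    rw [adj_iff, adj_iff]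
    show dotInt (vert (actPt g i) : GolayPt → ℤ) (vert (actPt g j) : GolayPt → ℤ) = 8 ↔ _
    rw [vert_actPt, vert_actPt, dotInt_smul])

theorem nonempty_mclEquiv_mcl : Nonempty (mclGroup ≃* mcl) :=
  ⟨MonoidHom.ofInjective actHom_injective⟩

theorem natCard_mcl : Nat.card mcl = 898128000 := by
  rw [← natCard_mclGroup]
  exact (Nat.card_congr nonempty_mclEquiv_mcl.some.toEquiv).symm

/-- The stabiliser of `0` in the McLaughlin group. -/
noncomputable def mclStab : Subgroup (Equiv.Perm Pt) := mcl ⊓ stabilizer (Equiv.Perm Pt) (0 : Pt)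

theorem mem_mclStab {u : Equiv.Perm Pt} : u ∈ mclStab ↔ u ∈ mcl ∧ u 0 = 0 :=
  Iff.rfl

theorem orbit_mcl_zero : {y | ∃ a ∈ mcl, a • (0 : Pt) = y} = Set.univ := by
  refine Set.eq_univ_iff_forall.2 fun i => ?_
  obtain ⟨g, hg⟩ := exists_mclGroup_map i
  exact ⟨actHom g, ⟨g, rfl⟩, hg⟩

theorem natCard_mclStab : Nat.card mclStab = 3265920 := by
  have h := ncard_orbit_mul mcl (0 : Pt)
  rw [orbit_mcl_zero, Set.ncard_univ, Nat.card_fin, natCard_mcl] at h
  change 275 * Nat.card mclStab = _ at h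
  omega

theorem nonempty_mclStab_psu {F : Type} [Field F] [Fintype F] (hF : Fintype.card F = 9) :
    Nonempty (mclStab ≃* Cfsg.PSU 4 F 3) := by
  obtain ⟨e⟩ := nonempty_mulEquiv_psu43 hF
  let f : (mclGroup ⊓ stabilizer Co0 baseX : Subgroup Co0) →* mclStab :=
    { toFun := fun g => ⟨actHom ⟨g.1, g.2.1⟩, ⟨⟨g.1, g.2.1⟩, rfl⟩, vert_injective (by
        show vert (actPt ⟨g.1, g.2.1⟩ 0) = vert 0
        rw [vert_actPt, vert_zero]; exact mem_stabilizer_iff.1 g.2.2)⟩
      map_one' := Subtype.ext (map_one actHom)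
      map_mul' := fun a b => Subtype.ext (map_mul actHom ⟨a.1, a.2.1⟩ ⟨b.1, b.2.1⟩) }
  have hf : Function.Injective f := fun a b h =>
    Subtype.ext (congrArg (fun x : mclGroup => (x : Co0))
      (actHom_injective (congrArg Subtype.val h)) :)
  have : Finite (mclGroup ⊓ stabilizer Co0 baseX : Subgroup Co0) :=
    Nat.finite_of_card_ne_zero (by rw [natCard_mclPointStab]; norm_num)
  have hb : Function.Bijective f := hf.bijective_of_nat_card_le
    (by rw [natCard_mclStab, natCard_mclPointStab])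
  exact ⟨(MulEquiv.ofBijective f hb).symm.trans e⟩

theorem isSimpleGroup_mclStab : IsSimpleGroup mclStab := by
  have : Fintype (GaloisField 3 2) := Fintype.ofFinite _
  have hF : Fintype.card (GaloisField 3 2) = 3 ^ 2 := by
    rw [← Nat.card_eq_fintype_card, GaloisField.card 3 2 (by norm_num)]
  obtain ⟨e⟩ := nonempty_mclStab_psu (F := GaloisField 3 2) (hF.trans (by norm_num))
  have : IsSimpleGroup (Cfsg.PSU 4 (GaloisField 3 2) 3) :=
    Unitary.isSimpleGroup_PSU hF (Or.inl le_rfl)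
  have : Nontrivial mclStab := e.toEquiv.nontrivial
  exact IsSimpleGroup.isSimpleGroup_of_surjective e.symm.toMonoidHom e.symm.surjective

/-! ### Tables -/

/-- The permutation of two inverse tables. -/
def tabPerm (h h' : List ℕ) (hh : (h.length == 275 && h'.length == 275 &&
    (h.zipIdx.all fun x => Nat.blt x.1 275 && h'.getD x.1 0 == x.2) &&
    (h'.zipIdx.all fun x => Nat.blt x.1 275 && h.getD x.1 0 == x.2)) = true) : Equiv.Perm Pt :=
  have key : (∀ i : Pt, h.getD i 0 < 275 ∧ h'.getD (h.getD i 0) 0 = i) ∧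
      ∀ i : Pt, h'.getD i 0 < 275 ∧ h.getD (h'.getD i 0) 0 = i := by
    simp only [Bool.and_eq_true, beq_iff_eq, List.all_eq_true, Nat.blt_eq] at hh
    obtain ⟨⟨⟨l1, l2⟩, h1⟩, h2⟩ := hh
    refine ⟨fun i => ?_, fun i => ?_⟩
    · rw [List.getD_eq_getElem _ _ (show (i : ℕ) < h.length by rw [l1]; exact i.2)]
      exact h1 (_, (i : ℕ)) (List.mem_zipIdx_iff_getElem?.2 (List.getElem?_eq_getElem _))
    · rw [List.getD_eq_getElem _ _ (show (i : ℕ) < h'.length by rw [l2]; exact i.2)]
      exact h2 (_, (i : ℕ)) (List.mem_zipIdx_iff_getElem?.2 (List.getElem?_eq_getElem _))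
  { toFun := fun i => ⟨h.getD i 0, (key.1 i).1⟩
    invFun := fun i => ⟨h'.getD i 0, (key.2 i).1⟩
    left_inv := fun i => Fin.ext (key.1 i).2
    right_inv := fun i => Fin.ext (key.2 i).2 }

/-! ### The index -/

theorem card_le_orbit_mul {H : Subgroup (Equiv.Perm Pt)} {x : Pt} {S : Finset Pt}
    (hS : ∀ h ∈ H, h x ∈ S) :
    Nat.card H ≤ S.card * Nat.card ↥(H ⊓ stabilizer (Equiv.Perm Pt) x) := by
  rw [← ncard_orbit_mul H x]
  refine Nat.mul_le_mul_right _ ?_
  rw [← Set.ncard_coe_finset]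
  exact Set.ncard_le_ncard (by rintro y ⟨a, ha, rfl⟩; exact hS a ha) (Finset.finite_toSet S)

theorem fix_of_rounds {h : Equiv.Perm Pt} (hh : h ∈ autG) :
    ∀ (rs : List (List ℕ)) (pre : ℕ), roundsOK rs pre = true →
      (∀ i : Pt, pre.testBit i = true → h i = i) → h = 1
  | [], pre, hc, hf => Equiv.ext fun i => hf i (by
      simp only [roundsOK, beq_iff_eq] at hc
      rw [hc, Nat.testBit_two_pow_sub_one]
      exact decide_eq_true i.2)
  | r :: rs, pre, hc, hf => by
    simp only [roundsOK, Bool.and_eq_true, List.all_eq_true, Nat.blt_eq] at hc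
    have hv : ∀ v : Pt, (v : ℕ) ∈ r → h v = v := fun v hv => by
      by_contra hne
      have h1 := (hc.1 v hv).2 (mask (h v), ((h v : Pt) : ℕ))
        (List.mem_zipIdx_iff_getElem?.2 (by
          show adjMasks[((h v : Pt) : ℕ)]? = some (mask (h v))
          rw [mask_eq, List.getElem?_eq_getElem]))
      simp only [Bool.or_eq_true, beq_iff_eq, Bool.not_eq_true', beq_eq_false_iff_ne] at h1
      rcases h1 with (h1 | h1) | h1
      · exact hne (h.injective (hf _ h1))
      · exact hne (Fin.ext h1)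
      · refine h1 (Nat.eq_of_testBit_eq fun k => ?_)
        rw [Nat.testBit_and, Nat.testBit_and]
        by_cases hk : pre.testBit k = true
        · by_cases hk' : k < 275
          · have := hh v ⟨k, hk'⟩
            rw [hf ⟨k, hk'⟩ hk] at this
            simp only [adj] at this
            rw [this]
          · rw [Nat.testBit_lt_two_pow ((mask_lt (h v)).trans_le
              (Nat.pow_le_pow_right (by norm_num) (by omega))), Nat.testBit_lt_two_pow
              ((mask_lt v).trans_le (Nat.pow_le_pow_right (by norm_num) (by omega)))]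
        · simp [Bool.eq_false_iff.2 hk]
    refine fix_of_rounds hh rs _ hc.2 fun i hi => ?_
    have key : ∀ (l : List ℕ) (m : ℕ), (l.foldl (fun m v => m ||| 2 ^ v) m).testBit (i : ℕ) = true →
        m.testBit (i : ℕ) = true ∨ (i : ℕ) ∈ l := by
      intro l
      induction l with
      | nil => exact fun m hm => Or.inl hm
      | cons a l ih =>
        intro m hm
        rcases ih _ hm with h' | h'
        · simp only [Nat.testBit_or, Bool.or_eq_true, Nat.testBit_two_pow, decide_eq_true_eq] at h'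
          rcases h' with h' | h'
          · exact Or.inl h'
          · exact Or.inr (h' ▸ List.mem_cons_self)
        · exact Or.inr (List.mem_cons_of_mem _ h')
    rcases key r pre hi with h' | h'
    exacts [hf i h', hv i h']

/-- The neighbours of `0`. -/
def nb : Finset Pt := bitSet nbMask

theorem nbMask_eq : mask 0 = nbMask := local_ok.1

theorem mem_nb {i : Pt} : i ∈ nb ↔ adj 0 i = true := by
  simp only [nb, mem_bitSet, adj, Fin.val_zero, nbMask_eq]

theorem card_nb : nb.card = 112 := (card_bitSet _).trans local_ok.2.1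

/-- The neighbours of `x` among the neighbours of `0`. -/
def nbAdj (x : Pt) : Finset Pt := nb.filter fun y => adj x y = true

/-- The non-neighbours of `x` among the neighbours of `0`. -/
def nbFar (x : Pt) : Finset Pt := nb.filter fun y => y ≠ x ∧ adj x y = false

theorem card_nbAdj_one : (nbAdj 1).card = 30 := by
  have h : nbAdj 1 = bitSet (mask 1 &&& nbMask) := by
    ext i
    unfold nbAdj
    rw [Finset.mem_filter]
    simp only [nb, adj, mem_bitSet, Nat.testBit_and, Bool.and_eq_true, Fin.val_one]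
    exact and_comm
  rw [h]
  exact (card_bitSet _).trans local_ok.2.2.1

theorem one_mem_nb : (1 : Pt) ∈ nb := by decide +kernel

theorem card_nbFar {x : Pt} (hx : x ∈ nb) : (nbFar x).card + (nbAdj x).card + 1 = 112 := by
  rw [← card_nb, ← Finset.card_union_of_disjoint, ← Finset.card_erase_add_one hx]
  · congr 2
    ext y
    simp only [nbFar, nbAdj, Finset.mem_union, Finset.mem_filter, Finset.mem_erase]
    constructor
    · rintro (⟨h1, h2, -⟩ | ⟨h1, h2⟩)
      · exact ⟨h2, h1⟩
      · refine ⟨?_, h1⟩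
        rintro rfl
        simp [adj_self] at h2
    · rintro ⟨h1, h2⟩
      cases h : adj x y
      · exact Or.inl ⟨h2, h1, rfl⟩
      · exact Or.inr ⟨h2, rfl⟩
  · refine Finset.disjoint_left.2 fun y h1 h2 => ?_
    simp only [nbFar, nbAdj, Finset.mem_filter] at h1 h2
    simp [h2.2] at h1

theorem natCard_autG_le : Nat.card autG ≤ 2 * Nat.card mcl := by
  set St := fun x : Pt => stabilizer (Equiv.Perm Pt) x with hSt
  have h0 : Nat.card autG ≤ 275 * Nat.card ↥(autG ⊓ St 0) := by
    refine le_trans (card_le_orbit_mul (x := (0 : Pt)) (S := Finset.univ) fun _ _ =>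
      Finset.mem_univ _) ?_
    simp [hSt]
  have h1 : Nat.card ↥(autG ⊓ St 0) ≤ 112 * Nat.card ↥(autG ⊓ St 0 ⊓ St 1) := by
    refine le_trans (card_le_orbit_mul (x := (1 : Pt)) (S := nb) fun h hh => ?_) (by rw [card_nb])
    have e0 : h 0 = 0 := hh.2
    have := hh.1 0 1
    rw [e0, mem_nb.1 one_mem_nb] at this
    exact mem_nb.2 this
  have h2 : Nat.card ↥(autG ⊓ St 0 ⊓ St 1) ≤ 81 * Nat.card ↥(autG ⊓ St 0 ⊓ St 1 ⊓ St 4) := by
    have h81 : (nbFar 1).card = 81 := by
      have := card_nbFar one_mem_nb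
      rw [card_nbAdj_one] at this
      omega
    refine le_trans (card_le_orbit_mul (x := (4 : Pt)) (S := nbFar 1) fun h hh => ?_)
      (by rw [h81])
    have e0 : h 0 = 0 := hh.1.2
    have e1 : h 1 = 1 := hh.2
    have a0 := hh.1.1 0 4
    have a1 := hh.1.1 1 4
    rw [e0] at a0
    rw [e1] at a1
    rw [show adj 1 4 = false from local_ok.2.2.2.2.1] at a1
    rw [show adj 0 4 = true by decide +kernel] at a0
    refine Finset.mem_filter.2 ⟨mem_nb.2 a0, fun he => ?_, a1⟩
    exact absurd (h.injective (he.trans e1.symm)) (by decide)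
  let com : Finset Pt := bitSet (mask 1 &&& mask 4 &&& nbMask)
  have hcom : com.card = 10 := (card_bitSet _).trans local_ok.2.2.2.1
  have step : ∀ {h : Equiv.Perm Pt}, h ∈ autG → h 0 = 0 → h 1 = 1 → h 4 = 4 →
      ∀ r ∈ com, h r ∈ com := by
    intro h hh e0 e1 e4 r hr
    simp only [com, mem_bitSet, Nat.testBit_and, Bool.and_eq_true] at hr ⊢
    obtain ⟨⟨r1, r4⟩, r0⟩ := hr
    have a0 := hh 0 r
    have a1 := hh 1 r
    have a4 := hh 4 r
    rw [e0] at a0; rw [e1] at a1; rw [e4] at a4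
    refine ⟨⟨a1.trans r1, a4.trans r4⟩, ?_⟩
    rw [← nbMask_eq]
    refine a0.trans ?_
    show (mask 0).testBit r = true
    rw [nbMask_eq]; exact r0
  have hr2 : (2 : Pt) ∈ com := by decide +kernel
  have hr3 : (3 : Pt) ∈ com := by decide +kernel
  have hr6 : (6 : Pt) ∈ com := by decide +kernel
  have h3 : Nat.card ↥(autG ⊓ St 0 ⊓ St 1 ⊓ St 4) ≤
      10 * Nat.card ↥(autG ⊓ St 0 ⊓ St 1 ⊓ St 4 ⊓ St 2) :=
    le_trans (card_le_orbit_mul (x := (2 : Pt)) (S := com) fun h hh =>
      step hh.1.1.1 hh.1.1.2 hh.1.2 hh.2 2 hr2) (by rw [hcom])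
  have h4 : Nat.card ↥(autG ⊓ St 0 ⊓ St 1 ⊓ St 4 ⊓ St 2) ≤
      9 * Nat.card ↥(autG ⊓ St 0 ⊓ St 1 ⊓ St 4 ⊓ St 2 ⊓ St 3) := by
    refine le_trans (card_le_orbit_mul (x := (3 : Pt)) (S := com.erase 2) fun h hh => ?_)
      (by rw [Finset.card_erase_of_mem hr2, hcom])
    refine Finset.mem_erase.2 ⟨fun he => ?_, step hh.1.1.1.1 hh.1.1.1.2 hh.1.1.2 hh.1.2 3 hr3⟩
    exact absurd (h.injective (he.trans (hh.2 : h 2 = 2).symm)) (by decide)
  have h5 : Nat.card ↥(autG ⊓ St 0 ⊓ St 1 ⊓ St 4 ⊓ St 2 ⊓ St 3) ≤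
      8 * Nat.card ↥(autG ⊓ St 0 ⊓ St 1 ⊓ St 4 ⊓ St 2 ⊓ St 3 ⊓ St 6) := by
    refine le_trans (card_le_orbit_mul (x := (6 : Pt)) (S := (com.erase 2).erase 3) fun h hh => ?_)
      (by rw [Finset.card_erase_of_mem (Finset.mem_erase.2 ⟨by decide, hr3⟩),
        Finset.card_erase_of_mem hr2, hcom])
    refine Finset.mem_erase.2 ⟨fun he => ?_, Finset.mem_erase.2 ⟨fun he => ?_,
      step hh.1.1.1.1.1 hh.1.1.1.1.2 hh.1.1.1.2 hh.1.1.2 6 hr6⟩⟩
    · exact absurd (h.injective (he.trans (hh.2 : h 3 = 3).symm)) (by decide)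
    · exact absurd (h.injective (he.trans (hh.1.2 : h 2 = 2).symm)) (by decide)
  have h6 : (autG ⊓ St 0 ⊓ St 1 ⊓ St 4 ⊓ St 2 ⊓ St 3 ⊓ St 6) = ⊥ := by
    refine (Subgroup.eq_bot_iff_forall _).2 fun h hh => ?_
    obtain ⟨⟨⟨⟨⟨⟨ha, e0⟩, e1⟩, e4⟩, e2⟩, e3⟩, e6⟩ := hh
    refine fix_of_rounds ha rounds _ rounds_ok fun i hi => ?_
    simp only [Nat.testBit_or, Bool.or_eq_true, Nat.testBit_two_pow, decide_eq_true_eq] at hi
    rcases hi with ((((hi | hi) | hi) | hi) | hi) | hi
    · rw [show i = 0 from Fin.ext hi.symm]; exact e0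
    · rw [show i = 1 from Fin.ext hi.symm]; exact e1
    · rw [show i = 4 from Fin.ext hi.symm]; exact e4
    · rw [show i = 2 from Fin.ext hi.symm]; exact e2
    · rw [show i = 3 from Fin.ext hi.symm]; exact e3
    · rw [show i = 6 from Fin.ext hi.symm]; exact e6
  rw [h6, Subgroup.card_bot] at h5
  rw [natCard_mcl]
  omega

theorem relIndex_mcl_le : mcl.relIndex autG ≤ 2 := by
  have h := (mcl.subgroupOf autG).card_mul_index
  rw [Nat.card_congr (Subgroup.subgroupOfEquivOfLe mcl_le_autG).toEquiv] at h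
  have := natCard_autG_le
  rw [Subgroup.relIndex]
  have hm := natCard_mcl
  by_contra hc
  have : Nat.card mcl * 3 ≤ Nat.card autG := h ▸ Nat.mul_le_mul_left _ (by omega)
  omega

theorem sq_mem_mcl {h : Equiv.Perm Pt} (hh : h ∈ autG) : h * h ∈ mcl := by
  have hr := relIndex_mcl_le
  have hne : mcl.relIndex autG ≠ 0 := Subgroup.index_ne_zero_of_finite
  rcases (by omega : mcl.relIndex autG = 1 ∨ mcl.relIndex autG = 2) with e | e
  · exact mul_mem (Subgroup.relIndex_eq_one.1 e hh) (Subgroup.relIndex_eq_one.1 e hh)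
  · have := Subgroup.sq_mem_of_index_two (H := mcl.subgroupOf autG) e ⟨h, hh⟩
    rw [sq, Subgroup.mem_subgroupOf] at this
    exact this

/-! ### Orbits -/

theorem mclStab_adj {u : Equiv.Perm Pt} (hu : u ∈ mclStab) (i j : Pt) :
    adj (u i) (u j) = adj i j :=
  mcl_le_autG hu.1 i j

theorem mclStab_nb {u : Equiv.Perm Pt} (hu : u ∈ mclStab) {i : Pt} : u i ∈ nb ↔ i ∈ nb := by
  rw [mem_nb, mem_nb, ← mclStab_adj hu 0 i, (mem_mclStab.1 hu).2]

theorem dist_far_ok : (vecs.zipIdx.all fun x => x.2 == 0 || nbMask.testBit x.2 ||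
    dotL x.1 (vecL 0) == 16) = true := by
  decide +kernel

/-- The stabiliser of `0` is transitive on the neighbours and on the others. -/
theorem exists_mclStab_map {i j : Pt} (hi : i ≠ 0) (hj : j ≠ 0) (h : i ∈ nb ↔ j ∈ nb) :
    ∃ u ∈ mclStab, u i = j := by
  have d : ∀ k : Pt, k ≠ 0 → (k ∈ nb → dotInt (vert k : GolayPt → ℤ) (baseX : GolayPt → ℤ) = 8) ∧
      (k ∉ nb → dotInt (vert k : GolayPt → ℤ) (baseX : GolayPt → ℤ) = 16) := by
    intro k hk
    refine ⟨fun hn => ?_, fun hn => ?_⟩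
    · rw [← vert_zero, ← adj_iff, adj_comm]; exact mem_nb.1 hn
    · rw [← vert_zero]
      show dotInt (vOf (vecL k)) (vOf (vecL 0)) = 16
      rw [show (0 : ℕ) = ((0 : Pt) : ℕ) from rfl, dotInt_vOf (vec_spec k).2.1 (vec_spec 0).2.1]
      have := List.all_eq_true.1 dist_far_ok (vecL k, (k : ℕ))
        (List.mem_zipIdx_iff_getElem?.2 (by
          show vecs[(k : ℕ)]? = some (vecL k)
          rw [vecL_eq, List.getElem?_eq_getElem]))
      simp only [Bool.or_eq_true, beq_iff_eq] at this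
      rcases this with (h' | h') | h'
      · exact absurd (Fin.ext h') hk
      · exact absurd (mem_bitSet.2 h') hn
      · exact h'
  have hne : ∀ k : Pt, k ≠ 0 → vert k ≠ baseX := fun k hk e =>
    hk (vert_injective (e.trans vert_zero.symm))
  obtain ⟨g, g1, g2, g3, g4⟩ := mclBase_orbits (vert_mem i) (vert_mem j) (hne i hi) (hne j hj) (by
    by_cases hn : i ∈ nb
    · rw [(d i hi).1 hn, (d j hj).1 (h.1 hn)]
    · rw [(d i hi).2 hn, (d j hj).2 fun hj' => hn (h.2 hj')])
  have hg : g ∈ mclGroup := ⟨mem_stabilizer_iff.2 g1, mem_stabilizer_iff.2 g2⟩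
  refine ⟨actHom ⟨g, hg⟩, ⟨⟨_, rfl⟩, vert_injective ?_⟩, vert_injective ?_⟩
  · show vert (actPt ⟨g, hg⟩ 0) = vert 0
    rw [vert_actPt, vert_zero]; exact g3
  · show vert (actPt ⟨g, hg⟩ i) = vert j
    rw [vert_actPt]; exact g4

theorem tree_sound {r : Pt} : ∀ (T : List (ℕ × ℕ × ℕ)) (seen : List ℕ), treeOK T seen = true →
    (∀ s ∈ seen, ∃ u ∈ mclStab, u 1 = 1 ∧ ((u r : Pt) : ℕ) = s) →
    ∀ s ∈ seen ++ T.map Prod.fst, ∃ u ∈ mclStab, u 1 = 1 ∧ ((u r : Pt) : ℕ) = s
  | [], seen, _, hs, s, h => hs s (by simpa using h)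
  | x :: T, seen, hc, hs, s, h => by
    simp only [treeOK, Bool.and_eq_true, List.contains_iff_mem, beq_iff_eq, Nat.blt_eq] at hc
    obtain ⟨⟨⟨hg, hp⟩, he⟩, hr⟩ := hc
    have hm : (auts.getD x.2.2 [], autsInv.getD x.2.2 []) ∈ auts.zip autsInv := by
      refine List.mem_iff_getElem.2 ⟨x.2.2, by simp [auts_ok.1, auts_ok.2.1, hg], ?_⟩
      simp [auts_ok.1, auts_ok.2.1, hg]
    have hok := List.all_eq_true.1 auts_ok.2.2 _ hm
    simp only [autOK, Bool.and_eq_true] at hok
    obtain ⟨⟨⟨hperm, f0⟩, f1⟩, hadj⟩ := hok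
    have hperm' := hperm
    set P := tabPerm _ _ (by simpa only [Bool.and_eq_true] using hperm') with hP
    set t := auts.getD x.2.2 [] with ht
    simp only [beq_iff_eq] at f0 f1 hperm
    have hPval : ∀ i : Pt, ((P i : Pt) : ℕ) = t.getD i 0 := fun i => rfl
    have hPa : P ∈ autG := fun i j => by
      simp only [List.all_eq_true, beq_iff_eq] at hadj
      have hi : (mask (i : ℕ), t.getD i 0) ∈ adjMasks.zip t := by
        refine List.mem_iff_getElem.2 ⟨i, by simp [adjMasks_length, hperm.1.1.1], ?_⟩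
        simp [mask_eq, List.getElem?_eq_getElem (show (i : ℕ) < t.length by rw [hperm.1.1.1]; exact i.2)]
      have := hadj _ hi (t.getD j 0, (j : ℕ)) (List.mem_zipIdx_iff_getElem?.2 (by
        show t[(j : ℕ)]? = some (t.getD j 0)
        rw [List.getD_eq_getElem _ _ (by rw [hperm.1.1.1]; exact j.2), List.getElem?_eq_getElem]))
      exact this
    have g0 : P 0 = 0 := Fin.ext (by
      rw [hPval, List.getD_eq_getElem _ _ (by rw [hperm.1.1.1]; decide)]
      rwa [List.getD_eq_getElem _ _ (by rw [hperm.1.1.1]; decide)] at f0)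
    have g1 : P 1 = 1 := Fin.ext (hPval 1 ▸ f1)
    obtain ⟨u, hu, u1, ur⟩ := hs _ hp
    have hPP : P * P ∈ mclStab := ⟨sq_mem_mcl hPa, by
      show P (P 0) = 0; rw [g0, g0]⟩
    refine tree_sound T (x.1 :: seen) hr (fun s' hs' => ?_) s (by
      simp only [List.map_cons, List.mem_append, List.mem_cons] at h ⊢; tauto)
    rcases List.mem_cons.1 hs' with rfl | h'
    · refine ⟨P * P * u, mul_mem hPP hu, ?_, ?_⟩
      · show P (P (u 1)) = 1; rw [u1, g1, g1]
      · show ((P (P (u r)) : Pt) : ℕ) = _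
        rw [hPval, hPval, ur, he]
    · exact hs s' h'

theorem exists_fix_one_map {y y' : Pt} (hy : y ∈ nb) (hy' : y' ∈ nb) (h1 : y ≠ 1) (h1' : y' ≠ 1)
    (h : adj 1 y = adj 1 y') : ∃ u ∈ mclStab, u 1 = 1 ∧ u y = y' := by
  obtain ⟨hA, hB, hcov⟩ := trees_ok
  simp only [List.all_eq_true, List.mem_range] at hcov
  let root : Pt := if adj 1 y then 2 else 4
  have key : ∀ w : Pt, w ∈ nb → w ≠ 1 → adj 1 w = adj 1 y →
      ∃ u ∈ mclStab, u 1 = 1 ∧ u root = w := by
    intro w hw hw1 hw2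
    have hc := hcov w w.2
    have e : nbMask.testBit (w : ℕ) = true := mem_bitSet.1 hw
    have e1 : ((w : ℕ) == 1) = false := beq_eq_false_iff_ne.2 fun e' => hw1 (Fin.ext e')
    simp only [e, e1, Bool.not_true, Bool.false_or] at hc
    change (if adj 1 w then _ else _) = true at hc
    have base : ∀ (T : List (ℕ × ℕ × ℕ)) (r : Pt), treeOK T [(r : ℕ)] = true →
        (w : ℕ) ∈ (r : ℕ) :: T.map Prod.fst → ∃ u ∈ mclStab, u 1 = 1 ∧ u r = w := by
      intro T r hT hmem
      obtain ⟨u, hu, u1, ur⟩ := tree_sound T [(r : ℕ)] hT (fun s hs => by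
        rw [List.mem_singleton] at hs
        exact ⟨1, one_mem _, rfl, hs.symm⟩) w (by simpa using hmem)
      exact ⟨u, hu, u1, Fin.ext ur⟩
    cases hb : adj 1 y with
    | true =>
      rw [hw2, hb] at hc
      simp only [if_pos, List.contains_iff_mem] at hc
      rw [show root = 2 by simp [root, hb]]
      exact base treeB 2 hB hc
    | false =>
      rw [hw2, hb] at hc
      simp only [Bool.false_eq_true, if_false, List.contains_iff_mem] at hc
      rw [show root = 4 by simp [root, hb]]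
      exact base treeA 4 hA hc
  obtain ⟨u, hu, u1, uy⟩ := key y hy h1 rfl
  obtain ⟨v, hv, v1, vy⟩ := key y' hy' h1' h.symm
  refine ⟨v * u⁻¹, mul_mem hv (inv_mem hu), ?_, ?_⟩
  · show v (u⁻¹ 1) = 1
    rw [Equiv.Perm.inv_eq_iff_eq.2 u1.symm, v1]
  · show v (u⁻¹ y) = y'
    rw [Equiv.Perm.inv_eq_iff_eq.2 uy.symm, vy]

/-- The orbits of two-point stabilisers. -/
theorem mclStab_two_point {x y y' : Pt} (hx : x ∈ nb) (hy : y ∈ nb) (hy' : y' ∈ nb)
    (h1 : y ≠ x) (h1' : y' ≠ x) (h : adj x y = adj x y') :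
    ∃ u ∈ mclStab, u x = x ∧ u y = y' := by
  have hx0 : x ≠ 0 := by rintro rfl; simp [mem_nb, adj_self] at hx
  obtain ⟨t, ht, tx⟩ := exists_mclStab_map (i := x) (j := 1) hx0 (by decide)
    (iff_of_true hx one_mem_nb)
  obtain ⟨u, hu, u1, uy⟩ := exists_fix_one_map ((mclStab_nb ht).2 hy) ((mclStab_nb ht).2 hy')
    (fun e => h1 (t.injective (e.trans tx.symm))) (fun e => h1' (t.injective (e.trans tx.symm)))
    (by rw [← tx, mclStab_adj ht, mclStab_adj ht, h])
  refine ⟨t⁻¹ * u * t, mul_mem (mul_mem (inv_mem ht) hu) ht, ?_, ?_⟩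
  · show t⁻¹ (u (t x)) = x
    rw [tx, u1, ← tx]
    exact t.symm_apply_apply x
  · show t⁻¹ (u (t y)) = y'
    rw [uy]
    exact t.symm_apply_apply y'

end Cfsg.Agent.McLRankThree
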