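import Cfsg.Agent.Lib.McLRankThree.Local

/-!
# Rank three groups on 275 points with point stabiliser `PSU(4,3)`

* `Setting`, `Setting.symm`, `Setting.exists_nearMap`, `Setting.params` : the orbital graph
-/

set_option autoImplicit false

open scoped Pointwise

namespace Cfsg.Agent.McLRankThree

open MulAction Leech

attribute [local irreducible] bitSet nb

section

variable {Ω : Type*} [Fintype Ω] [DecidableEq Ω] {G : Subgroup (Equiv.Perm Ω)}
  {a b c : Ω}

open scoped Classical in
/-- The out-neighbours in the orbital of `(a, b)`. -/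
noncomputable def outSet (G : Subgroup (Equiv.Perm Ω)) (a b x : Ω) : Finset Ω :=
  Finset.univ.filter fun y => ∃ g : G, g • a = x ∧ g • b = y

theorem mem_outSet {x y : Ω} : y ∈ outSet G a b x ↔ ∃ g : G, g • a = x ∧ g • b = y := by
  simp [outSet]

theorem mem_outSet_smul (g : G) {x y : Ω} :
    g • y ∈ outSet G a b (g • x) ↔ y ∈ outSet G a b x := by
  rw [mem_outSet, mem_outSet]
  constructor
  · rintro ⟨k, h1, h2⟩
    exact ⟨g⁻¹ * k, by rw [mul_smul, h1, inv_smul_smul], by rw [mul_smul, h2, inv_smul_smul]⟩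
  · rintro ⟨k, rfl, rfl⟩
    exact ⟨g * k, mul_smul .., mul_smul ..⟩

theorem mem_outSet_base {y : Ω} : y ∈ outSet G a b a ↔ y ∈ orbit (stabilizer G a) b := by
  rw [mem_outSet, mem_orbit_iff]
  exact ⟨fun ⟨g, h1, h2⟩ => ⟨⟨g, h1⟩, h2⟩, fun ⟨s, h⟩ => ⟨s.1, s.2, h⟩⟩

theorem not_self_mem_orbit {x : Ω} {n : ℕ} (h : (orbit (stabilizer G a) x).ncard = n) (hn : 1 < n) :
    a ∉ orbit (stabilizer G a) x := fun hm => by
  have ha : orbit (stabilizer G a) a = {a} := by
    ext y
    simp only [mem_orbit_iff, Set.mem_singleton_iff]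
    exact ⟨fun ⟨g, hg⟩ => hg.symm.trans g.2, fun e => ⟨1, by rw [one_smul, e]⟩⟩
  rw [← orbit_eq_iff.mpr hm, ha, Set.ncard_singleton] at h
  omega

/-- The data of a rank three action. -/
structure Setting (G : Subgroup (Equiv.Perm Ω)) (a b c : Ω) where
  /-- the number of points -/
  hΩ : Fintype.card Ω = 275
  /-- the stabiliser -/
  ψ : stabilizer G a ≃* mclStab
  /-- the first orbit -/
  hb : (orbit (stabilizer G a) b).ncard = 112
  /-- the second orbit -/
  hc : (orbit (stabilizer G a) c).ncard = 162

namespace Setting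

variable (D : Setting G a b c)

include D

theorem cases (y : Ω) :
    y = a ∨ y ∈ orbit (stabilizer G a) b ∨ y ∈ orbit (stabilizer G a) c := by
  classical
  have hab := not_self_mem_orbit D.hb (by norm_num)
  have hac := not_self_mem_orbit D.hc (by norm_num)
  have hbc : Disjoint (orbit (stabilizer G a) b) (orbit (stabilizer G a) c) :=
    Set.disjoint_left.mpr fun x hx hx' => by
      have h1 := D.hb
      rw [← orbit_eq_iff.mpr hx, orbit_eq_iff.mpr hx', D.hc] at h1
      norm_num at h1
  have hU : (insert a (orbit (stabilizer G a) b ∪ orbit (stabilizer G a) c) : Set Ω) = Set.univ := by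
    refine Set.eq_of_subset_of_ncard_le (Set.subset_univ _) ?_
    rw [Set.ncard_insert_of_notMem (by simp [hab, hac]), Set.ncard_union_eq hbc, D.hb, D.hc,
      Set.ncard_univ, Nat.card_eq_fintype_card, D.hΩ]
  have := hU ▸ Set.mem_univ y
  simpa using this

theorem not_mem_both {y : Ω} (h : y ∈ orbit (stabilizer G a) b)
    (h' : y ∈ orbit (stabilizer G a) c) : False := by
  have h1 := D.hb
  rw [← orbit_eq_iff.mpr h, orbit_eq_iff.mpr h', D.hc] at h1
  norm_num at h1

variable [IsPretransitive G Ω]

include D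

theorem card_out (x : Ω) : (outSet G a b x).card = 112 := by
  obtain ⟨g, rfl⟩ := exists_smul_eq G a x
  have h0 : (outSet G a b a).card = 112 := by
    rw [← D.hb, ← Set.ncard_coe_finset]
    congr 1
    ext y; simp [mem_outSet_base]
  rw [← h0]
  exact Finset.card_bij (fun y _ => g⁻¹ • y)
    (fun y hy => by rw [← mem_outSet_smul g, smul_inv_smul]; exact hy)
    (fun _ _ _ _ e => MulAction.injective g⁻¹ e)
    fun y hy => ⟨g • y, (mem_outSet_smul g).2 hy, inv_smul_smul _ _⟩

theorem symm {x y : Ω} : y ∈ outSet G a b x ↔ x ∈ outSet G a b y := by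
  classical
  suffices key : ∀ z, a ∈ outSet G a b z ↔ z ∈ outSet G a b a by
    obtain ⟨g, rfl⟩ := exists_smul_eq G a x
    rw [← smul_inv_smul g y, mem_outSet_smul, mem_outSet_smul, key]
  let I : Ω → Finset Ω := fun w => Finset.univ.filter fun z => w ∈ outSet G a b z
  have hI : ∀ w, (I w).card = (I a).card := fun w => by
    obtain ⟨g, rfl⟩ := exists_smul_eq G a w
    exact Finset.card_bij (fun y _ => g⁻¹ • y)
      (fun y hy => Finset.mem_filter.2 ⟨Finset.mem_univ _, by
        rw [← mem_outSet_smul g, smul_inv_smul]; exact (Finset.mem_filter.1 hy).2⟩)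
      (fun _ _ _ _ e => MulAction.injective g⁻¹ e)
      fun y hy => ⟨g • y, Finset.mem_filter.2 ⟨Finset.mem_univ _,
        (mem_outSet_smul g).2 (Finset.mem_filter.1 hy).2⟩, inv_smul_smul _ _⟩
  have hIa : (I a).card = 112 := by
    have h := Finset.sum_card_bipartiteAbove_eq_sum_card_bipartiteBelow
      (s := (Finset.univ : Finset Ω)) (t := Finset.univ) (fun x y => y ∈ outSet G a b x)
    have e1 : ∀ x, Finset.bipartiteAbove (fun x y => y ∈ outSet G a b x) Finset.univ x =
        outSet G a b x := fun x => by ext; simp [Finset.bipartiteAbove]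
    have e2 : ∀ x, Finset.bipartiteBelow (fun x y => y ∈ outSet G a b x) Finset.univ x = I x :=
      fun x => rfl
    simp only [e1, e2, D.card_out, hI, Finset.sum_const, Finset.card_univ, D.hΩ, smul_eq_mul] at h
    omega
  have hinv : ∀ (s : stabilizer G a) (z : Ω), z ∈ I a → s • z ∈ I a := fun s z hz => by
    refine Finset.mem_filter.2 ⟨Finset.mem_univ _, ?_⟩
    have := (mem_outSet_smul (s : G)).2 (Finset.mem_filter.1 hz).2
    rwa [show (s : G) • a = a from s.2] at this
  have hsub : I a ⊆ outSet G a b a := by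
    intro z hz
    rcases D.cases z with rfl | h | h
    · exact absurd (mem_outSet_base.1 (Finset.mem_filter.1 hz).2)
        (not_self_mem_orbit D.hb (by norm_num))
    · exact mem_outSet_base.2 h
    · exfalso
      have hs : orbit (stabilizer G a) c ⊆ (I a : Set Ω) := by
        rw [← orbit_eq_iff.mpr h]
        rintro _ ⟨s, rfl⟩
        exact hinv s z hz
      have := Set.ncard_le_ncard hs (Finset.finite_toSet _)
      rw [D.hc, Set.ncard_coe_finset, hIa] at this
      norm_num at this
  have heq := Finset.eq_of_subset_of_card_le hsub (by rw [hIa, D.card_out])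
  intro z
  rw [← heq]
  simp [I]

/-- The adjacency of a rank three graph. -/
def R (_D : Setting G a b c) (x y : Ω) : Prop := y ∈ outSet G a b x

theorem self_not_mem (x : Ω) : x ∉ outSet G a b x := by
  obtain ⟨g, rfl⟩ := exists_smul_eq G a x
  rw [mem_outSet_smul, mem_outSet_base]
  exact not_self_mem_orbit D.hb (by norm_num)

/-- The common neighbours. -/
noncomputable def com (_D : Setting G a b c) (x y : Ω) : Finset Ω :=
  outSet G a b x ∩ outSet G a b y

theorem card_com_smul (g : G) (x y : Ω) : (D.com (g • x) (g • y)).card = (D.com x y).card := by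
  refine Finset.card_bij (fun z _ => g⁻¹ • z) (fun z hz => ?_)
    (fun _ _ _ _ e => MulAction.injective g⁻¹ e) fun z hz => ⟨g • z, ?_, inv_smul_smul _ _⟩
  · simp only [com, Finset.mem_inter] at hz ⊢
    rw [← mem_outSet_smul g, ← mem_outSet_smul g (x := y), smul_inv_smul]
    exact hz
  · simp only [com, Finset.mem_inter] at hz ⊢
    rw [mem_outSet_smul, mem_outSet_smul]
    exact hz

theorem card_com_adj {x y : Ω} (h : y ∈ outSet G a b x) :
    (D.com x y).card = (D.com a b).card := by
  obtain ⟨g, rfl, rfl⟩ := mem_outSet.1 h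
  exact D.card_com_smul g a b

theorem card_com_nonadj {x y : Ω} (h : y ∉ outSet G a b x) (hne : x ≠ y) :
    (D.com x y).card = (D.com a c).card := by
  obtain ⟨g, rfl⟩ := exists_smul_eq G a x
  rw [← smul_inv_smul g y, mem_outSet_smul] at h
  rw [← smul_inv_smul g y, D.card_com_smul]
  rcases D.cases (g⁻¹ • y) with e | e | e
  · exact absurd (inv_smul_eq_iff.1 e).symm hne
  · exact absurd (mem_outSet_base.2 e) h
  · obtain ⟨s, hs⟩ := e
    rw [← hs]
    show (D.com a ((s : G) • c)).card = _
    have := D.card_com_smul s.1 a c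
    rw [show (s : G) • a = a from s.2] at this
    exact this

end Setting

end

namespace Setting

variable {Ω : Type*} [Fintype Ω] [DecidableEq Ω] {G : Subgroup (Equiv.Perm Ω)}
  [IsPretransitive G Ω] {a b c : Ω} (D : Setting G a b c)

include D

/-- The first neighbourhood. -/
noncomputable def near (_D : Setting G a b c) : Finset Ω := outSet G a b a

open scoped Classical in
/-- The second neighbourhood. -/
noncomputable def far (_D : Setting G a b c) : Finset Ω :=
  Finset.univ.filter fun z => z ∈ orbit (stabilizer G a) c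

theorem mem_far {z : Ω} : z ∈ D.far ↔ z ∈ orbit (stabilizer G a) c := by simp [far]

theorem mem_near {z : Ω} : z ∈ D.near ↔ z ∈ orbit (stabilizer G a) b := mem_outSet_base

theorem card_near : D.near.card = 112 := D.card_out a

theorem card_far : D.far.card = 162 := by
  rw [← D.hc, ← Set.ncard_coe_finset]
  congr 1
  ext z; simp [far]

theorem split_card (S : Finset Ω) :
    S.card = (if a ∈ S then 1 else 0) + (S ∩ D.near).card + (S ∩ D.far).card := by
  classical
  have hd : Disjoint (S ∩ D.near) (S ∩ D.far) := Finset.disjoint_left.2 fun z h1 h2 =>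
    D.not_mem_both (D.mem_near.1 (Finset.mem_inter.1 h1).2) (D.mem_far.1 (Finset.mem_inter.1 h2).2)
  have ha : a ∉ S ∩ D.near ∪ S ∩ D.far := by
    simp [D.mem_near, D.mem_far, not_self_mem_orbit D.hb (by norm_num),
      not_self_mem_orbit D.hc (by norm_num)]
  by_cases h : a ∈ S
  · have e : S = insert a (S ∩ D.near ∪ S ∩ D.far) := by
      ext z
      simp only [Finset.mem_insert, Finset.mem_union, Finset.mem_inter, D.mem_near, D.mem_far]
      refine ⟨fun hz => ?_, ?_⟩
      · rcases D.cases z with e | e | e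
        exacts [Or.inl e, Or.inr (Or.inl ⟨hz, e⟩), Or.inr (Or.inr ⟨hz, e⟩)]
      · rintro (rfl | ⟨hz, -⟩ | ⟨hz, -⟩)
        exacts [h, hz, hz]
    conv_lhs => rw [e]
    rw [Finset.card_insert_of_notMem ha, Finset.card_union_of_disjoint hd, if_pos h]
    omega
  · have e : S = S ∩ D.near ∪ S ∩ D.far := by
      ext z
      simp only [Finset.mem_union, Finset.mem_inter, D.mem_near, D.mem_far]
      refine ⟨fun hz => ?_, ?_⟩
      · rcases D.cases z with e | e | e
        exacts [absurd (e ▸ hz) h, Or.inl ⟨hz, e⟩, Or.inr ⟨hz, e⟩]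
      · rintro (⟨hz, -⟩ | ⟨hz, -⟩) <;> exact hz
    conv_lhs => rw [e]
    rw [Finset.card_union_of_disjoint hd, if_neg h]
    omega

theorem ψ_fix_zero (s : stabilizer G a) : (D.ψ s : Equiv.Perm Pt) 0 = 0 := (D.ψ s).2.2

/-- The first neighbourhood is the neighbourhood of `0`. -/
theorem exists_nearMap : ∃ f : Ω → Pt, (∀ y ∈ D.near, f y ∈ nb) ∧ Set.InjOn f D.near ∧
    D.near.image f = nb ∧ ∀ (s : stabilizer G a), ∀ y ∈ D.near, f (s • y) = (D.ψ s : Equiv.Perm Pt) (f y) := by
  classical
  set φ : stabilizer G a →* Equiv.Perm Pt := mclStab.subtype.comp D.ψ.toMonoidHom with hφ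
  have hφi : Function.Injective φ := Subtype.val_injective.comp D.ψ.injective
  set H := (stabilizer (stabilizer G a) b).map φ with hH
  have hcard : Nat.card H = 29160 := by
    rw [← Nat.card_congr (Subgroup.equivMapOfInjective _ φ hφi).toEquiv]
    have h := (stabilizer (stabilizer G a) b).index_mul_card
    rw [index_stabilizer, D.hb, Nat.card_congr D.ψ.toEquiv, natCard_mclStab] at h
    omega
  have hle : H ≤ mclStab := by
    rintro _ ⟨s, -, rfl⟩; exact (D.ψ s).2
  obtain ⟨x, hx, hfix⟩ := exists_fixed_nb hle hcard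
  let f : Ω → Pt := fun y =>
    if h : ∃ s : stabilizer G a, s • b = y then φ h.choose x else 0
  have hf : ∀ s : stabilizer G a, f (s • b) = φ s x := fun s => by
    have h : ∃ s' : stabilizer G a, s' • b = s • b := ⟨s, rfl⟩
    simp only [f, dif_pos h]
    have hm : s⁻¹ * h.choose ∈ stabilizer (stabilizer G a) b :=
      mem_stabilizer_iff.2 (by rw [mul_smul, h.choose_spec, inv_smul_smul])
    have := hfix _ ⟨_, hm, rfl⟩
    rw [map_mul, map_inv] at this
    exact (Equiv.Perm.inv_eq_iff_eq.1 this)
  have hmem : ∀ y ∈ D.near, f y ∈ nb := fun y hy => by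
    obtain ⟨s, rfl⟩ := D.mem_near.1 hy
    exact (hf s).symm ▸ (mclStab_nb (D.ψ s).2).2 hx
  have himg : D.near.image f = nb := by
    refine Finset.Subset.antisymm (Finset.image_subset_iff.2 hmem) fun y hy => ?_
    obtain ⟨u, hu, hux⟩ := exists_to_one hx
    obtain ⟨v, hv, hvy⟩ := exists_to_one hy
    obtain ⟨s, hs⟩ := D.ψ.surjective ⟨v⁻¹ * u, mul_mem (inv_mem hv) hu⟩
    refine Finset.mem_image.2 ⟨s • b, D.mem_near.2 ⟨s, rfl⟩, ?_⟩
    rw [hf]
    show (D.ψ s : Equiv.Perm Pt) x = y
    rw [hs]
    show v⁻¹ (u x) = y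
    rw [hux, ← hvy]; exact v.symm_apply_apply y
  refine ⟨f, hmem, Finset.card_image_iff.1 (by rw [himg, card_nb, D.card_near]), himg,
    fun s y hy => ?_⟩
  obtain ⟨t, rfl⟩ := D.mem_near.1 hy
  rw [← mul_smul, hf, hf, map_mul]
  rfl

theorem smul_mem_far (s : stabilizer G a) {z : Ω} (hz : z ∈ D.far) : s • z ∈ D.far := by
  rw [D.mem_far] at hz ⊢
  rw [← orbit_eq_iff.mpr hz]
  exact mem_orbit _ _

theorem smul_mem_near (s : stabilizer G a) {z : Ω} (hz : z ∈ D.near) : s • z ∈ D.near := by
  rw [D.mem_near] at hz ⊢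
  rw [← orbit_eq_iff.mpr hz]
  exact mem_orbit _ _

variable {f : Ω → Pt} (hmem : ∀ y ∈ D.near, f y ∈ nb) (hinj : Set.InjOn f D.near)
  (himg : D.near.image f = nb)
  (heq : ∀ (s : stabilizer G a), ∀ y ∈ D.near, f (s • y) = (D.ψ s : Equiv.Perm Pt) (f y))

include hmem hinj himg heq

/-- The parameters and the adjacency in the first neighbourhood. -/
theorem params : (D.com a b).card = 30 ∧ (D.com a c).card = 56 ∧
    ∀ y ∈ D.near, ∀ y' ∈ D.near, (y' ∈ outSet G a b y ↔ adj (f y) (f y') = true) := by
  classical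
  have hbn : b ∈ D.near := D.mem_near.2 (mem_orbit_self b)
  have hcf : c ∈ D.far := D.mem_far.2 (mem_orbit_self c)
  set x := f b with hxd
  have hx : x ∈ nb := hmem b hbn
  set T := (D.com a b).image f with hT
  have hTnear : D.com a b ⊆ D.near := fun y hy => (Finset.mem_inter.1 hy).1
  have hTc : T.card = (D.com a b).card :=
    Finset.card_image_of_injOn fun y hy y' hy' e => hinj (hTnear hy) (hTnear hy') e
  have hTsub : T ⊆ nbAdj x ∪ nbFar x := by
    intro y hy
    obtain ⟨w, hw, rfl⟩ := Finset.mem_image.1 hy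
    have hwn := hTnear hw
    have hne : f w ≠ x := fun e => by
      have := hinj hwn hbn e
      subst this
      exact D.self_not_mem w (Finset.mem_inter.1 hw).2
    cases h : adj x (f w) <;> simp [nbAdj, nbFar, hmem w hwn, hne, h]
  have hTinv : ∀ y ∈ T, ∀ y' ∈ nb, y' ≠ x → adj x y' = adj x y → y' ∈ T := by
    intro y hy y' hy' hne hadj
    obtain ⟨w, hw, rfl⟩ := Finset.mem_image.1 hy
    have hwn := hTnear hw
    have hne0 : f w ≠ x := fun e => by
      have := hinj hwn hbn e
      subst this
      exact D.self_not_mem w (Finset.mem_inter.1 hw).2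
    obtain ⟨u, hu, ux, uy⟩ := mclStab_two_point hx (hmem w hwn) hy' hne0 hne hadj.symm
    obtain ⟨s, hs⟩ := D.ψ.surjective ⟨u, hu⟩
    have hsb : s • b = b := hinj (D.smul_mem_near s hbn) hbn (by
      rw [heq s b hbn, hs]; exact ux)
    refine Finset.mem_image.2 ⟨s • w, Finset.mem_inter.2 ⟨D.smul_mem_near s hwn, ?_⟩, by
      rw [heq s w hwn, hs]; exact uy⟩
    have := (mem_outSet_smul (s : G)).2 (Finset.mem_inter.1 hw).2
    rwa [show (s : G) • b = b from hsb] at this
  have hd : Disjoint (nbAdj x) (nbFar x) := Finset.disjoint_left.2 fun y h1 h2 => by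
    simp [nbAdj, nbFar] at h1 h2
    simp [h1.2] at h2
  have hA : nbAdj x ⊆ T ∨ Disjoint (nbAdj x) T := by
    by_cases h : ∃ y ∈ nbAdj x, y ∈ T
    · obtain ⟨y, h1, h2⟩ := h
      refine Or.inl fun y' hy' => hTinv y h2 y' ?_ ?_ ?_
      · exact (Finset.mem_filter.1 hy').1
      · rintro rfl
        simp [nbAdj, adj_self] at hy'
      · rw [(Finset.mem_filter.1 h1).2, (Finset.mem_filter.1 hy').2]
    · exact Or.inr (Finset.disjoint_left.2 fun y h1 h2 => h ⟨y, h1, h2⟩)
  have hF : nbFar x ⊆ T ∨ Disjoint (nbFar x) T := by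
    by_cases h : ∃ y ∈ nbFar x, y ∈ T
    · obtain ⟨y, h1, h2⟩ := h
      refine Or.inl fun y' hy' => hTinv y h2 y' ?_ ?_ ?_
      · exact (Finset.mem_filter.1 hy').1
      · exact (Finset.mem_filter.1 hy').2.1
      · rw [(Finset.mem_filter.1 h1).2.2, (Finset.mem_filter.1 hy').2.2]
    · exact Or.inr (Finset.disjoint_left.2 fun y h1 h2 => h ⟨y, h1, h2⟩)
  have hsplitT : T.card = (T ∩ nbAdj x).card + (T ∩ nbFar x).card := by
    rw [← Finset.card_union_of_disjoint (hd.mono Finset.inter_subset_right Finset.inter_subset_right),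
      ← Finset.inter_union_distrib_left, Finset.inter_eq_left.2 hTsub]
  -- the double count
  have hnear : ∀ y ∈ D.near, (outSet G a b y ∩ D.far).card + (D.com a b).card + 1 = 112 := by
    intro y hy
    have h := D.split_card (outSet G a b y)
    rw [D.card_out, if_pos (D.symm.1 hy)] at h
    have e : (outSet G a b y ∩ D.near).card = (D.com a b).card := by
      rw [← D.card_com_adj (show y ∈ outSet G a b a from hy), Finset.inter_comm]
      rfl
    omega
  have hfar : ∀ z ∈ D.far, (outSet G a b z ∩ D.near).card = (D.com a c).card := by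
    intro z hz
    have hna : z ∉ outSet G a b a := fun h => D.not_mem_both (D.mem_near.1 h) (D.mem_far.1 hz)
    rw [← D.card_com_nonadj hna (fun e => not_self_mem_orbit D.hc (by norm_num) (e ▸ D.mem_far.1 hz)),
      Finset.inter_comm]
    rfl
  have hdc : 112 * (111 - (D.com a b).card) = 162 * (D.com a c).card := by
    have h := Finset.sum_card_bipartiteAbove_eq_sum_card_bipartiteBelow
      (s := D.near) (t := D.far) (fun x y => y ∈ outSet G a b x)
    have e1 : ∀ y ∈ D.near, (Finset.bipartiteAbove (fun x y => y ∈ outSet G a b x) D.far y).card =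
        111 - (D.com a b).card := fun y hy => by
      have := hnear y hy
      rw [show Finset.bipartiteAbove (fun x y => y ∈ outSet G a b x) D.far y =
        outSet G a b y ∩ D.far by ext; simp [Finset.bipartiteAbove, and_comm]]
      omega
    have e2 : ∀ z ∈ D.far, (Finset.bipartiteBelow (fun x y => y ∈ outSet G a b x) D.near z).card =
        (D.com a c).card := fun z hz => by
      rw [← hfar z hz]
      congr 1
      ext y
      simp [Finset.bipartiteBelow, and_comm, D.symm (x := y) (y := z)]
    rw [Finset.sum_congr rfl e1, Finset.sum_congr rfl e2] at h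
    simpa [D.card_near, D.card_far] using h
  have hlam : (D.com a b).card = 30 ∧ (T ∩ nbFar x) = ∅ ∧ nbAdj x ⊆ T := by
    have h30 := card_nbAdj hx
    have h81 := card_nbFar_eq hx
    rcases hA with hA | hA <;> rcases hF with hF | hF
    · exfalso
      rw [Finset.inter_eq_right.2 hA, Finset.inter_eq_right.2 hF, h30, h81, hTc] at hsplitT
      rw [hsplitT] at hdc
      have hμ : (D.com a c).card = 0 := by omega
      have hdis : ∀ z ∈ D.far, outSet G a b z ⊆ D.far := by
        intro z hz w hw
        rcases D.cases w with rfl | hw' | hw'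
        · exact absurd (D.symm.1 hw) fun h => D.not_mem_both (D.mem_near.1 h) (D.mem_far.1 hz)
        · have := hfar z hz
          rw [hμ, Finset.card_eq_zero] at this
          exact absurd (Finset.mem_inter.2 ⟨hw, D.mem_near.2 hw'⟩) (this ▸ Finset.notMem_empty w)
        · exact D.mem_far.2 hw'
      have hC : (insert c (outSet G a b c)).card = 113 := by
        rw [Finset.card_insert_of_notMem (D.self_not_mem c), D.card_out]
      obtain ⟨w, hw, hwC⟩ := Finset.exists_mem_notMem_of_card_lt_card
        (show (insert c (outSet G a b c)).card < D.far.card by rw [hC, D.card_far]; norm_num)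
      rw [Finset.mem_insert, not_or] at hwC
      have hdj : Disjoint (insert c (outSet G a b c)) (outSet G a b w) := by
        refine Finset.disjoint_left.2 fun v hv hv' => ?_
        rcases Finset.mem_insert.1 hv with rfl | hv
        · exact hwC.2 (D.symm.1 hv')
        · have hcv : (D.com c v).card = 111 := (D.card_com_adj hv).trans hsplitT
          have hcin : c ∈ outSet G a b v := D.symm.1 hv
          have hse : D.com c v = (outSet G a b v).erase c := by
            refine Finset.eq_of_subset_of_card_le (fun t ht => ?_) ?_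
            · obtain ⟨t1, t2⟩ := Finset.mem_inter.1 ht
              exact Finset.mem_erase.2 ⟨fun e => D.self_not_mem c (e ▸ t1), t2⟩
            · rw [Finset.card_erase_of_mem hcin, D.card_out, hcv]
          have : w ∈ D.com c v := hse ▸ Finset.mem_erase.2 ⟨hwC.1, D.symm.1 hv'⟩
          exact hwC.2 (Finset.mem_inter.1 this).1
      have := Finset.card_le_card (Finset.union_subset
        (Finset.insert_subset hcf (hdis c hcf)) (hdis w hw))
      rw [Finset.card_union_of_disjoint hdj, hC, D.card_out, D.card_far] at this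
      omega
    · rw [Finset.inter_eq_right.2 hA, Finset.disjoint_iff_inter_eq_empty.1 hF.symm, h30,
        Finset.card_empty, hTc] at hsplitT
      exact ⟨hsplitT, Finset.disjoint_iff_inter_eq_empty.1 hF.symm, hA⟩
    · exfalso
      rw [Finset.inter_eq_right.2 hF, Finset.disjoint_iff_inter_eq_empty.1 hA.symm, h81,
        Finset.card_empty, hTc] at hsplitT
      rw [hsplitT] at hdc
      omega
    · exfalso
      rw [Finset.disjoint_iff_inter_eq_empty.1 hA.symm, Finset.disjoint_iff_inter_eq_empty.1 hF.symm,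
        Finset.card_empty, hTc] at hsplitT
      rw [hsplitT] at hdc
      omega
  obtain ⟨h30, hTF, hTA⟩ := hlam
  have hmu : (D.com a c).card = 56 := by rw [h30] at hdc; omega
  refine ⟨h30, hmu, fun y hy y' hy' => ?_⟩
  obtain ⟨s, rfl⟩ := D.mem_near.1 hy
  obtain ⟨w, hwn, rfl⟩ : ∃ w ∈ D.near, s • w = y' :=
    ⟨s⁻¹ • y', D.smul_mem_near _ hy', smul_inv_smul _ _⟩
  rw [heq s b hbn, heq s w hwn, mclStab_adj (D.ψ s).2]
  change (s : G) • w ∈ outSet G a b ((s : G) • b) ↔ _
  rw [mem_outSet_smul]
  constructor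
  · intro h
    have hwT : f w ∈ T := Finset.mem_image.2 ⟨w, Finset.mem_inter.2 ⟨hwn, h⟩, rfl⟩
    rcases Finset.mem_union.1 (hTsub hwT) with h' | h'
    · exact (Finset.mem_filter.1 h').2
    · have : f w ∈ T ∩ nbFar x := Finset.mem_inter.2 ⟨hwT, h'⟩
      rw [hTF] at this
      exact absurd this (Finset.notMem_empty _)
  · intro h
    obtain ⟨v, hv, hvw⟩ := Finset.mem_image.1 (hTA (Finset.mem_filter.2 ⟨hmem w hwn, h⟩))
    have := hinj (hTnear hv) hwn hvw
    exact this ▸ (Finset.mem_inter.1 hv).2

end Setting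

end Cfsg.Agent.McLRankThree
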