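import Cfsg.Agent.Lib.Leech.MatEl

/-!
# The 275 vectors of the McLaughlin graph

* `vecs`
-/

set_option autoImplicit false

namespace Cfsg.Agent.McLRankThree

open Leech

/-- The vectors. -/
def vecs : List (List ℤ) :=
  [[ep0, ep4, ep0, ep0, ep0, ep0, ep0, ep0, ep0, ep0, ep0, ep0, ep0, ep0, ep0, ep0, ep0, ep0, ep0, ep0, ep0, ep0, ep0, ep4],
   [ep2, ep0, ep2, ep0, ep2, ep2, ep2, ep0, ep0, ep0, ep2, ep2, ep0, ep0, ep0, ep0, ep0, ep0, ep0, ep0, ep0, ep0, ep0, ep2],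
   [ep1, em1, ep1, em1, ep1, em1, em1, em1, ep1, ep1, ep1, em1, em1, ep1, ep1, ep1, ep1, ep1, ep1, ep1, ep1, ep1, ep1, ep3],
   [ep1, em1, em1, ep1, em1, ep1, ep1, em1, ep1, em1, ep1, em1, ep1, ep1, em1, ep1, ep1, ep1, ep1, ep1, ep1, ep1, ep1, ep3],
   [ep2, ep0, ep0, ep2, ep0, ep0, ep0, ep0, ep0, ep2, ep2, ep2, ep2, ep0, ep2, ep0, ep0, ep0, ep0, ep0, ep0, ep0, ep0, ep2],
   [ep2, ep0, ep2, ep2, ep0, ep0, ep0, ep2, ep0, ep0, ep0, ep2, ep0, ep2, ep0, ep2, ep0, ep0, ep0, ep0, ep0, ep0, ep0, ep2],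
   [ep1, em1, ep1, ep1, em1, ep1, ep1, ep1, ep1, ep1, em1, em1, em1, em1, ep1, em1, ep1, ep1, ep1, ep1, ep1, ep1, ep1, ep3],
   [ep1, em1, em1, ep1, ep1, em1, em1, ep1, em1, em1, ep1, ep1, ep1, ep1, ep1, ep1, em1, ep1, ep1, ep1, ep1, ep1, ep1, ep3],
   [ep2, ep0, ep2, ep0, ep0, ep0, ep0, ep2, ep2, ep0, ep2, ep0, ep0, ep0, ep2, ep0, ep2, ep0, ep0, ep0, ep0, ep0, ep0, ep2],
   [ep1, em1, ep1, em1, em1, ep1, ep1, ep1, em1, ep1, ep1, ep1, em1, ep1, em1, ep1, em1, ep1, ep1, ep1, ep1, ep1, ep1, ep3],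
   [ep2, ep0, ep0, ep0, ep0, ep0, ep0, ep0, ep2, ep2, ep0, ep0, ep2, ep2, ep0, ep2, ep2, ep0, ep0, ep0, ep0, ep0, ep0, ep2],
   [ep2, ep0, ep0, ep0, ep2, ep0, ep0, ep0, ep2, ep0, ep0, ep2, ep0, ep2, ep2, ep0, ep0, ep2, ep0, ep0, ep0, ep0, ep0, ep2],
   [ep1, em1, ep1, em1, ep1, ep1, ep1, ep1, em1, em1, ep1, em1, ep1, ep1, ep1, em1, ep1, em1, ep1, ep1, ep1, ep1, ep1, ep3],
   [ep2, ep0, ep0, ep0, ep0, ep2, ep2, ep2, ep0, ep0, ep0, ep0, ep0, ep2, ep0, ep0, ep2, ep2, ep0, ep0, ep0, ep0, ep0, ep2],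
   [ep1, em1, ep1, ep1, ep1, ep1, ep1, ep1, ep1, em1, em1, ep1, ep1, em1, em1, ep1, em1, em1, ep1, ep1, ep1, ep1, ep1, ep3],
   [ep2, ep0, ep0, ep2, ep2, ep0, ep0, ep0, ep0, ep0, ep2, ep0, ep0, ep0, ep0, ep2, ep2, ep2, ep0, ep0, ep0, ep0, ep0, ep2],
   [ep1, em1, em1, ep1, ep1, ep1, ep1, em1, ep1, ep1, ep1, ep1, em1, ep1, ep1, em1, em1, em1, ep1, ep1, ep1, ep1, ep1, ep3],
   [ep1, em1, em1, ep1, ep1, em1, ep1, em1, ep1, ep1, em1, ep1, ep1, em1, ep1, ep1, ep1, ep1, em1, ep1, ep1, ep1, ep1, ep3],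
   [ep2, ep0, ep0, ep2, ep2, ep2, ep0, ep0, ep0, ep0, ep0, ep0, ep2, ep2, ep0, ep0, ep0, ep0, ep2, ep0, ep0, ep0, ep0, ep2],
   [ep2, ep0, ep2, ep0, ep0, ep0, ep2, ep0, ep0, ep2, ep0, ep0, ep0, ep2, ep2, ep0, ep0, ep0, ep2, ep0, ep0, ep0, ep0, ep2],
   [ep1, em1, em1, em1, em1, ep1, em1, ep1, ep1, ep1, ep1, ep1, ep1, ep1, ep1, em1, ep1, ep1, em1, ep1, ep1, ep1, ep1, ep3],
   [ep2, ep0, ep0, ep0, ep0, ep0, ep2, ep2, ep0, ep0, ep2, ep0, ep2, ep0, ep0, ep2, ep0, ep0, ep2, ep0, ep0, ep0, ep0, ep2],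
   [ep1, em1, ep1, ep1, ep1, em1, ep1, ep1, ep1, em1, ep1, ep1, em1, ep1, em1, em1, ep1, ep1, em1, ep1, ep1, ep1, ep1, ep3],
   [ep2, ep0, ep0, ep0, ep0, ep2, ep0, ep0, ep2, ep2, ep2, ep0, ep0, ep0, ep0, ep0, ep0, ep2, ep2, ep0, ep0, ep0, ep0, ep2],
   [ep1, em1, ep1, ep1, ep1, ep1, em1, em1, em1, ep1, ep1, ep1, ep1, ep1, em1, ep1, ep1, em1, em1, ep1, ep1, ep1, ep1, ep3],
   [ep1, em1, ep1, ep1, em1, em1, ep1, ep1, ep1, ep1, ep1, em1, ep1, ep1, ep1, ep1, em1, em1, em1, ep1, ep1, ep1, ep1, ep3],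
   [ep2, ep0, ep0, ep0, ep2, ep0, ep0, ep2, ep0, ep2, ep2, ep0, ep0, ep2, ep0, ep0, ep0, ep0, ep0, ep2, ep0, ep0, ep0, ep2],
   [ep1, em1, em1, em1, ep1, ep1, ep1, ep1, ep1, em1, ep1, ep1, em1, em1, ep1, ep1, ep1, ep1, ep1, em1, ep1, ep1, ep1, ep3],
   [ep1, em1, ep1, ep1, em1, em1, em1, ep1, ep1, ep1, ep1, ep1, ep1, em1, em1, ep1, ep1, ep1, ep1, em1, ep1, ep1, ep1, ep3],
   [ep2, ep0, ep0, ep2, ep0, ep2, ep2, ep0, ep0, ep2, ep0, ep0, ep0, ep0, ep0, ep2, ep0, ep0, ep0, ep2, ep0, ep0, ep0, ep2],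
   [ep1, em1, ep1, em1, ep1, ep1, ep1, em1, ep1, ep1, em1, ep1, ep1, ep1, em1, em1, ep1, ep1, ep1, em1, ep1, ep1, ep1, ep3],
   [ep2, ep0, ep2, ep0, ep2, ep0, ep0, ep0, ep0, ep0, ep0, ep0, ep2, ep0, ep2, ep2, ep0, ep0, ep0, ep2, ep0, ep0, ep0, ep2],
   [ep1, em1, ep1, ep1, ep1, ep1, ep1, em1, em1, ep1, ep1, em1, ep1, em1, ep1, ep1, em1, ep1, ep1, em1, ep1, ep1, ep1, ep3],
   [ep1, em1, em1, ep1, em1, ep1, ep1, ep1, em1, ep1, em1, ep1, ep1, ep1, ep1, ep1, ep1, em1, ep1, em1, ep1, ep1, ep1, ep3],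
   [ep2, ep0, ep0, ep2, ep0, ep0, ep0, ep2, ep2, ep0, ep0, ep0, ep2, ep0, ep0, ep0, ep0, ep2, ep0, ep2, ep0, ep0, ep0, ep2],
   [ep2, ep0, ep2, ep0, ep0, ep0, ep0, ep0, ep0, ep2, ep0, ep2, ep0, ep0, ep0, ep0, ep2, ep2, ep0, ep2, ep0, ep0, ep0, ep2],
   [ep1, em1, ep1, ep1, ep1, ep1, em1, ep1, ep1, em1, em1, em1, ep1, ep1, ep1, ep1, ep1, ep1, em1, em1, ep1, ep1, ep1, ep3],
   [ep2, ep0, ep0, ep0, ep0, ep2, ep0, ep2, ep0, ep0, ep0, ep2, ep0, ep0, ep2, ep0, ep0, ep0, ep2, ep2, ep0, ep0, ep0, ep2],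
   [ep2, ep0, ep0, ep0, ep2, ep0, ep2, ep0, ep2, ep0, ep0, ep0, ep0, ep0, ep0, ep0, ep2, ep0, ep2, ep2, ep0, ep0, ep0, ep2],
   [ep2, ep0, ep0, ep0, ep0, ep0, ep2, ep2, ep2, ep2, ep0, ep2, ep0, ep0, ep0, ep0, ep0, ep0, ep0, ep0, ep2, ep0, ep0, ep2],
   [ep1, em1, ep1, ep1, ep1, em1, ep1, ep1, em1, ep1, em1, em1, ep1, ep1, em1, ep1, ep1, ep1, ep1, ep1, em1, ep1, ep1, ep3],
   [ep1, em1, ep1, ep1, em1, ep1, em1, em1, ep1, ep1, em1, ep1, ep1, ep1, ep1, ep1, em1, ep1, ep1, ep1, em1, ep1, ep1, ep3],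
   [ep2, ep0, ep2, ep2, ep0, ep0, ep2, ep0, ep0, ep0, ep0, ep0, ep2, ep0, ep0, ep0, ep2, ep0, ep0, ep0, ep2, ep0, ep0, ep2],
   [ep2, ep0, ep0, ep0, ep2, ep2, ep0, ep0, ep0, ep2, ep0, ep0, ep0, ep0, ep2, ep0, ep2, ep0, ep0, ep0, ep2, ep0, ep0, ep2],
   [ep1, em1, ep1, em1, ep1, em1, ep1, ep1, ep1, ep1, ep1, ep1, ep1, em1, ep1, em1, em1, ep1, ep1, ep1, em1, ep1, ep1, ep3],
   [ep1, em1, em1, ep1, ep1, ep1, em1, ep1, ep1, ep1, ep1, em1, ep1, em1, ep1, ep1, ep1, em1, ep1, ep1, em1, ep1, ep1, ep3],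
   [ep2, ep0, ep0, ep0, ep0, ep2, ep0, ep0, ep0, ep0, ep0, ep2, ep2, ep0, ep0, ep2, ep0, ep2, ep0, ep0, ep2, ep0, ep0, ep2],
   [ep1, em1, ep1, ep1, em1, ep1, ep1, ep1, em1, em1, ep1, ep1, ep1, em1, ep1, ep1, ep1, ep1, em1, ep1, em1, ep1, ep1, ep3],
   [ep2, ep0, ep0, ep2, ep0, ep0, ep0, ep0, ep2, ep0, ep0, ep0, ep0, ep0, ep2, ep2, ep0, ep0, ep2, ep0, ep2, ep0, ep0, ep2],
   [ep2, ep0, ep0, ep0, ep0, ep0, ep0, ep0, ep0, ep0, ep2, ep2, ep0, ep2, ep0, ep0, ep2, ep0, ep2, ep0, ep2, ep0, ep0, ep2],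
   [ep2, ep0, ep2, ep0, ep2, ep0, ep0, ep2, ep0, ep0, ep0, ep0, ep0, ep0, ep0, ep0, ep0, ep2, ep2, ep0, ep2, ep0, ep0, ep2],
   [ep1, em1, ep1, em1, ep1, ep1, ep1, ep1, ep1, ep1, em1, ep1, em1, ep1, ep1, ep1, ep1, em1, em1, ep1, em1, ep1, ep1, ep3],
   [ep2, ep0, ep2, ep0, ep0, ep2, ep0, ep0, ep2, ep0, ep0, ep0, ep0, ep2, ep0, ep0, ep0, ep0, ep0, ep2, ep2, ep0, ep0, ep2],
   [ep1, em1, ep1, ep1, ep1, ep1, em1, ep1, em1, ep1, ep1, ep1, em1, ep1, ep1, em1, ep1, ep1, ep1, em1, em1, ep1, ep1, ep3],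
   [ep1, em1, ep1, ep1, ep1, em1, ep1, em1, ep1, em1, ep1, ep1, ep1, ep1, ep1, ep1, ep1, em1, ep1, em1, em1, ep1, ep1, ep3],
   [ep2, ep0, ep0, ep0, ep0, ep0, ep2, ep0, ep0, ep0, ep2, ep0, ep0, ep0, ep2, ep0, ep0, ep2, ep0, ep2, ep2, ep0, ep0, ep2],
   [ep1, em1, em1, ep1, ep1, ep1, ep1, ep1, ep1, ep1, ep1, ep1, ep1, ep1, em1, ep1, em1, ep1, em1, em1, em1, ep1, ep1, ep3],
   [ep2, ep0, ep2, ep2, ep2, ep0, ep0, ep0, ep2, ep2, ep0, ep0, ep0, ep0, ep0, ep0, ep0, ep0, ep0, ep0, ep0, ep2, ep0, ep2],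
   [ep1, em1, ep1, ep1, ep1, ep1, ep1, em1, em1, em1, em1, ep1, em1, ep1, ep1, ep1, ep1, ep1, ep1, ep1, ep1, em1, ep1, ep3],
   [ep2, ep0, ep0, ep0, ep0, ep2, ep2, ep0, ep2, ep0, ep0, ep0, ep2, ep0, ep2, ep0, ep0, ep0, ep0, ep0, ep0, ep2, ep0, ep2],
   [ep1, em1, em1, ep1, ep1, ep1, ep1, ep1, em1, ep1, ep1, ep1, ep1, em1, em1, em1, ep1, ep1, ep1, ep1, ep1, em1, ep1, ep3],
   [ep1, em1, em1, em1, ep1, ep1, ep1, ep1, ep1, ep1, em1, em1, ep1, ep1, ep1, ep1, em1, ep1, ep1, ep1, ep1, em1, ep1, ep3],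
   [ep2, ep0, ep0, ep0, ep2, ep0, ep0, ep2, ep0, ep0, ep0, ep2, ep2, ep0, ep0, ep0, ep2, ep0, ep0, ep0, ep0, ep2, ep0, ep2],
   [ep1, em1, ep1, em1, em1, ep1, ep1, em1, ep1, ep1, ep1, ep1, ep1, em1, ep1, ep1, ep1, em1, ep1, ep1, ep1, em1, ep1, ep3],
   [ep2, ep0, ep2, ep0, ep0, ep0, ep0, ep0, ep0, ep0, ep2, ep0, ep2, ep2, ep0, ep0, ep0, ep2, ep0, ep0, ep0, ep2, ep0, ep2],
   [ep1, em1, ep1, ep1, ep1, em1, em1, ep1, ep1, ep1, em1, ep1, ep1, ep1, ep1, em1, ep1, em1, ep1, ep1, ep1, em1, ep1, ep3],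
   [ep2, ep0, ep0, ep0, ep0, ep0, ep0, ep2, ep0, ep2, ep0, ep0, ep0, ep0, ep2, ep2, ep0, ep2, ep0, ep0, ep0, ep2, ep0, ep2],
   [ep1, em1, ep1, ep1, ep1, ep1, em1, ep1, ep1, ep1, ep1, ep1, em1, em1, ep1, ep1, em1, ep1, em1, ep1, ep1, em1, ep1, ep3],
   [ep2, ep0, ep2, ep0, ep0, ep2, ep0, ep0, ep0, ep0, ep0, ep0, ep0, ep0, ep0, ep2, ep2, ep0, ep2, ep0, ep0, ep2, ep0, ep2],
   [ep2, ep0, ep0, ep2, ep0, ep0, ep2, ep0, ep0, ep0, ep0, ep2, ep0, ep0, ep0, ep0, ep0, ep2, ep2, ep0, ep0, ep2, ep0, ep2],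
   [ep2, ep0, ep0, ep0, ep0, ep0, ep0, ep0, ep2, ep0, ep2, ep2, ep0, ep0, ep0, ep2, ep0, ep0, ep0, ep2, ep0, ep2, ep0, ep2],
   [ep2, ep0, ep0, ep2, ep0, ep0, ep0, ep0, ep0, ep0, ep0, ep0, ep0, ep2, ep2, ep0, ep2, ep0, ep0, ep2, ep0, ep2, ep0, ep2],
   [ep1, em1, ep1, ep1, em1, ep1, ep1, ep1, ep1, em1, ep1, ep1, ep1, ep1, ep1, em1, em1, ep1, ep1, em1, ep1, em1, ep1, ep3],
   [ep1, em1, ep1, ep1, ep1, ep1, ep1, ep1, ep1, ep1, ep1, em1, em1, ep1, em1, ep1, ep1, em1, ep1, em1, ep1, em1, ep1, ep3],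
   [ep1, em1, ep1, em1, ep1, em1, ep1, ep1, em1, ep1, ep1, ep1, ep1, ep1, ep1, ep1, ep1, ep1, em1, em1, ep1, em1, ep1, ep3],
   [ep2, ep0, ep0, ep2, ep0, ep2, ep0, ep2, ep0, ep0, ep2, ep0, ep0, ep0, ep0, ep0, ep0, ep0, ep0, ep0, ep2, ep2, ep0, ep2],
   [ep1, em1, em1, ep1, em1, em1, ep1, ep1, ep1, ep1, ep1, ep1, em1, ep1, ep1, ep1, ep1, ep1, ep1, ep1, em1, em1, ep1, ep3],
   [ep1, em1, ep1, em1, ep1, ep1, em1, ep1, ep1, em1, ep1, ep1, ep1, ep1, em1, ep1, ep1, ep1, ep1, ep1, em1, em1, ep1, ep3],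
   [ep2, ep0, ep0, ep0, ep2, ep0, ep2, ep0, ep0, ep0, ep0, ep0, ep0, ep2, ep0, ep2, ep0, ep0, ep0, ep0, ep2, ep2, ep0, ep2],
   [ep1, em1, ep1, ep1, ep1, ep1, ep1, em1, ep1, ep1, ep1, em1, ep1, ep1, ep1, em1, ep1, ep1, em1, ep1, em1, em1, ep1, ep3],
   [ep2, ep0, ep0, ep0, ep0, ep0, ep0, ep0, ep0, ep2, ep0, ep0, ep2, ep0, ep0, ep0, ep0, ep0, ep2, ep2, ep2, ep2, ep0, ep2],
   [ep1, em1, ep1, em1, em1, em1, ep1, ep1, ep1, em1, em1, ep1, ep1, ep1, ep1, ep1, ep1, ep1, ep1, ep1, ep1, ep1, em1, ep3],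
   [ep2, ep0, ep2, ep0, ep0, ep2, ep0, ep2, ep0, ep2, ep0, ep0, ep2, ep0, ep0, ep0, ep0, ep0, ep0, ep0, ep0, ep0, ep2, ep2],
   [ep2, ep0, ep0, ep2, ep2, ep0, ep2, ep2, ep0, ep0, ep0, ep0, ep0, ep0, ep2, ep0, ep0, ep0, ep0, ep0, ep0, ep0, ep2, ep2],
   [ep1, em1, em1, ep1, ep1, ep1, em1, ep1, ep1, ep1, em1, ep1, em1, ep1, em1, ep1, ep1, ep1, ep1, ep1, ep1, ep1, em1, ep3],
   [ep1, em1, ep1, ep1, ep1, ep1, em1, em1, ep1, em1, ep1, ep1, ep1, em1, ep1, em1, ep1, ep1, ep1, ep1, ep1, ep1, em1, ep3],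
   [ep2, ep0, ep0, ep0, ep0, ep2, ep0, ep0, ep0, ep0, ep2, ep0, ep0, ep2, ep2, ep2, ep0, ep0, ep0, ep0, ep0, ep0, ep2, ep2],
   [ep2, ep0, ep0, ep2, ep0, ep2, ep0, ep0, ep2, ep0, ep0, ep2, ep0, ep0, ep0, ep0, ep2, ep0, ep0, ep0, ep0, ep0, ep2, ep2],
   [ep1, em1, ep1, ep1, ep1, em1, ep1, ep1, em1, ep1, ep1, ep1, em1, em1, ep1, ep1, ep1, em1, ep1, ep1, ep1, ep1, em1, ep3],
   [ep2, ep0, ep2, ep0, ep0, ep0, ep2, ep0, ep2, ep0, ep0, ep0, ep0, ep0, ep0, ep2, ep0, ep2, ep0, ep0, ep0, ep0, ep2, ep2],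
   [ep1, em1, ep1, em1, ep1, ep1, ep1, ep1, ep1, ep1, ep1, em1, ep1, em1, em1, ep1, ep1, ep1, em1, ep1, ep1, ep1, em1, ep3],
   [ep2, ep0, ep0, ep0, ep2, ep0, ep0, ep0, ep0, ep2, ep0, ep2, ep0, ep0, ep0, ep2, ep0, ep0, ep2, ep0, ep0, ep0, ep2, ep2],
   [ep1, em1, ep1, ep1, ep1, ep1, ep1, ep1, em1, ep1, em1, ep1, ep1, ep1, ep1, em1, em1, ep1, em1, ep1, ep1, ep1, em1, ep3],
   [ep2, ep0, ep0, ep0, ep0, ep0, ep0, ep0, ep0, ep0, ep0, ep0, ep2, ep0, ep2, ep0, ep2, ep2, ep2, ep0, ep0, ep0, ep2, ep2],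
   [ep2, ep0, ep0, ep0, ep0, ep0, ep2, ep0, ep0, ep0, ep0, ep2, ep2, ep2, ep0, ep0, ep0, ep0, ep0, ep2, ep0, ep0, ep2, ep2],
   [ep1, em1, em1, ep1, ep1, em1, ep1, ep1, ep1, ep1, ep1, em1, ep1, ep1, ep1, em1, ep1, ep1, ep1, em1, ep1, ep1, em1, ep3],
   [ep1, em1, ep1, em1, ep1, ep1, em1, ep1, ep1, ep1, ep1, ep1, ep1, ep1, ep1, ep1, em1, em1, ep1, em1, ep1, ep1, em1, ep3],
   [ep2, ep0, ep2, ep2, ep0, ep0, ep0, ep0, ep0, ep0, ep2, ep0, ep0, ep0, ep0, ep0, ep0, ep0, ep2, ep2, ep0, ep0, ep2, ep2],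
   [ep1, em1, ep1, ep1, em1, ep1, ep1, em1, ep1, ep1, ep1, ep1, em1, ep1, ep1, ep1, ep1, ep1, em1, em1, ep1, ep1, em1, ep3],
   [ep1, em1, em1, em1, ep1, ep1, ep1, em1, em1, ep1, ep1, ep1, ep1, ep1, ep1, ep1, ep1, ep1, ep1, ep1, em1, ep1, em1, ep3],
   [ep2, ep0, ep0, ep0, ep2, ep0, ep0, ep0, ep2, ep0, ep2, ep0, ep2, ep0, ep0, ep0, ep0, ep0, ep0, ep0, ep2, ep0, ep2, ep2],
   [ep1, em1, ep1, ep1, ep1, ep1, ep1, ep1, ep1, em1, ep1, em1, em1, ep1, ep1, ep1, em1, ep1, ep1, ep1, em1, ep1, em1, ep3],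
   [ep2, ep0, ep0, ep2, ep0, ep0, ep0, ep0, ep0, ep2, ep0, ep0, ep0, ep2, ep0, ep0, ep0, ep2, ep0, ep0, ep2, ep0, ep2, ep2],
   [ep1, em1, ep1, ep1, em1, ep1, ep1, ep1, ep1, ep1, ep1, ep1, ep1, ep1, em1, em1, ep1, em1, ep1, ep1, em1, ep1, em1, ep3],
   [ep2, ep0, ep0, ep0, ep0, ep0, ep0, ep2, ep0, ep0, ep0, ep0, ep0, ep0, ep0, ep2, ep2, ep0, ep0, ep2, ep2, ep0, ep2, ep2],
   [ep1, em1, ep1, ep1, em1, ep1, em1, ep1, em1, ep1, ep1, em1, ep1, ep1, ep1, ep1, ep1, ep1, ep1, ep1, ep1, em1, em1, ep3],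
   [ep2, ep0, ep0, ep0, ep0, ep0, ep2, ep0, ep0, ep2, ep2, ep0, ep0, ep0, ep0, ep0, ep2, ep0, ep0, ep0, ep0, ep2, ep2, ep2],
   [ep1, em1, ep1, ep1, ep1, em1, ep1, em1, ep1, ep1, ep1, ep1, ep1, ep1, em1, ep1, em1, ep1, ep1, ep1, ep1, em1, em1, ep3],
   [ep2, ep0, ep0, ep0, ep0, ep0, ep0, ep2, ep2, ep0, ep0, ep0, ep0, ep2, ep0, ep0, ep0, ep0, ep2, ep0, ep0, ep2, ep2, ep2],
   [ep1, em1, em1, ep1, ep1, ep1, ep1, ep1, ep1, em1, ep1, ep1, ep1, ep1, ep1, ep1, ep1, em1, em1, ep1, ep1, em1, em1, ep3],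
   [ep2, ep0, ep0, ep0, ep2, ep2, ep0, ep0, ep0, ep0, ep0, ep0, ep0, ep0, ep0, ep0, ep0, ep2, ep0, ep2, ep0, ep2, ep2, ep2],
   [ep2, ep0, ep2, ep0, ep0, ep0, ep0, ep0, ep0, ep0, ep0, ep2, ep0, ep0, ep2, ep0, ep0, ep0, ep0, ep0, ep2, ep2, ep2, ep2],
   [ep1, em1, ep1, ep1, ep1, ep1, ep1, ep1, ep1, ep1, em1, ep1, ep1, em1, ep1, ep1, ep1, ep1, ep1, em1, em1, em1, em1, ep3],
   [ep0, ep0, ep4, ep0, ep0, ep0, ep0, ep0, ep0, ep0, ep0, ep0, ep0, ep0, ep0, ep0, ep0, ep0, ep0, ep0, ep0, ep0, ep0, ep4],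
   [ep0, ep0, ep0, ep4, ep0, ep0, ep0, ep0, ep0, ep0, ep0, ep0, ep0, ep0, ep0, ep0, ep0, ep0, ep0, ep0, ep0, ep0, ep0, ep4],
   [ep0, ep0, ep0, ep0, ep4, ep0, ep0, ep0, ep0, ep0, ep0, ep0, ep0, ep0, ep0, ep0, ep0, ep0, ep0, ep0, ep0, ep0, ep0, ep4],
   [ep0, ep0, ep0, ep0, ep0, ep4, ep0, ep0, ep0, ep0, ep0, ep0, ep0, ep0, ep0, ep0, ep0, ep0, ep0, ep0, ep0, ep0, ep0, ep4],
   [ep0, ep0, ep0, ep0, ep0, ep0, ep4, ep0, ep0, ep0, ep0, ep0, ep0, ep0, ep0, ep0, ep0, ep0, ep0, ep0, ep0, ep0, ep0, ep4],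
   [ep0, ep0, ep0, ep0, ep0, ep0, ep0, ep4, ep0, ep0, ep0, ep0, ep0, ep0, ep0, ep0, ep0, ep0, ep0, ep0, ep0, ep0, ep0, ep4],
   [ep0, ep0, ep0, ep0, ep0, ep0, ep0, ep0, ep4, ep0, ep0, ep0, ep0, ep0, ep0, ep0, ep0, ep0, ep0, ep0, ep0, ep0, ep0, ep4],
   [ep0, ep0, ep0, ep0, ep0, ep0, ep0, ep0, ep0, ep4, ep0, ep0, ep0, ep0, ep0, ep0, ep0, ep0, ep0, ep0, ep0, ep0, ep0, ep4],
   [ep0, ep0, ep0, ep0, ep0, ep0, ep0, ep0, ep0, ep0, ep4, ep0, ep0, ep0, ep0, ep0, ep0, ep0, ep0, ep0, ep0, ep0, ep0, ep4],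
   [ep0, ep0, ep0, ep0, ep0, ep0, ep0, ep0, ep0, ep0, ep0, ep4, ep0, ep0, ep0, ep0, ep0, ep0, ep0, ep0, ep0, ep0, ep0, ep4],
   [ep0, ep0, ep0, ep0, ep0, ep0, ep0, ep0, ep0, ep0, ep0, ep0, ep4, ep0, ep0, ep0, ep0, ep0, ep0, ep0, ep0, ep0, ep0, ep4],
   [ep0, ep0, ep0, ep0, ep0, ep0, ep0, ep0, ep0, ep0, ep0, ep0, ep0, ep4, ep0, ep0, ep0, ep0, ep0, ep0, ep0, ep0, ep0, ep4],
   [ep0, ep0, ep0, ep0, ep0, ep0, ep0, ep0, ep0, ep0, ep0, ep0, ep0, ep0, ep4, ep0, ep0, ep0, ep0, ep0, ep0, ep0, ep0, ep4],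
   [ep0, ep0, ep0, ep0, ep0, ep0, ep0, ep0, ep0, ep0, ep0, ep0, ep0, ep0, ep0, ep4, ep0, ep0, ep0, ep0, ep0, ep0, ep0, ep4],
   [ep0, ep0, ep0, ep0, ep0, ep0, ep0, ep0, ep0, ep0, ep0, ep0, ep0, ep0, ep0, ep0, ep4, ep0, ep0, ep0, ep0, ep0, ep0, ep4],
   [ep0, ep0, ep0, ep0, ep0, ep0, ep0, ep0, ep0, ep0, ep0, ep0, ep0, ep0, ep0, ep0, ep0, ep4, ep0, ep0, ep0, ep0, ep0, ep4],
   [ep0, ep0, ep0, ep0, ep0, ep0, ep0, ep0, ep0, ep0, ep0, ep0, ep0, ep0, ep0, ep0, ep0, ep0, ep4, ep0, ep0, ep0, ep0, ep4],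
   [ep0, ep0, ep0, ep0, ep0, ep0, ep0, ep0, ep0, ep0, ep0, ep0, ep0, ep0, ep0, ep0, ep0, ep0, ep0, ep4, ep0, ep0, ep0, ep4],
   [ep0, ep0, ep0, ep0, ep0, ep0, ep0, ep0, ep0, ep0, ep0, ep0, ep0, ep0, ep0, ep0, ep0, ep0, ep0, ep0, ep4, ep0, ep0, ep4],
   [ep0, ep0, ep0, ep0, ep0, ep0, ep0, ep0, ep0, ep0, ep0, ep0, ep0, ep0, ep0, ep0, ep0, ep0, ep0, ep0, ep0, ep4, ep0, ep4],
   [ep0, ep0, ep0, ep0, ep0, ep0, ep0, ep0, ep0, ep0, ep0, ep0, ep0, ep0, ep0, ep0, ep0, ep0, ep0, ep0, ep0, ep0, ep4, ep4],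
   [ep2, ep2, ep0, ep2, ep0, ep0, ep2, ep0, ep2, ep0, ep2, ep0, ep0, ep2, ep0, ep0, ep0, ep0, ep0, ep0, ep0, ep0, ep0, ep2],
   [ep1, ep1, em1, ep1, em1, ep1, em1, em1, em1, ep1, ep1, ep1, em1, em1, ep1, ep1, ep1, ep1, ep1, ep1, ep1, ep1, ep1, ep3],
   [ep1, ep1, ep1, em1, ep1, em1, ep1, em1, em1, em1, ep1, ep1, ep1, em1, em1, ep1, ep1, ep1, ep1, ep1, ep1, ep1, ep1, ep3],
   [ep2, ep2, ep0, ep0, ep2, ep2, ep0, ep2, ep2, ep0, ep0, ep0, ep0, ep0, ep0, ep2, ep0, ep0, ep0, ep0, ep0, ep0, ep0, ep2],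
   [ep1, ep1, em1, em1, ep1, em1, ep1, ep1, em1, ep1, em1, ep1, em1, ep1, ep1, em1, ep1, ep1, ep1, ep1, ep1, ep1, ep1, ep3],
   [ep1, ep1, ep1, ep1, em1, ep1, em1, ep1, em1, em1, em1, ep1, ep1, ep1, em1, em1, ep1, ep1, ep1, ep1, ep1, ep1, ep1, ep3],
   [ep1, ep1, ep1, em1, em1, ep1, em1, ep1, ep1, em1, ep1, em1, ep1, em1, ep1, ep1, em1, ep1, ep1, ep1, ep1, ep1, ep1, ep3],
   [ep1, ep1, em1, ep1, ep1, em1, ep1, ep1, ep1, ep1, ep1, em1, em1, em1, em1, ep1, em1, ep1, ep1, ep1, ep1, ep1, ep1, ep3],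
   [ep1, ep1, ep1, ep1, ep1, em1, ep1, em1, ep1, em1, em1, em1, ep1, ep1, ep1, em1, em1, ep1, ep1, ep1, ep1, ep1, ep1, ep3],
   [ep2, ep2, ep0, ep0, ep0, ep0, ep2, ep0, ep0, ep0, ep0, ep2, ep0, ep0, ep2, ep2, ep2, ep0, ep0, ep0, ep0, ep0, ep0, ep2],
   [ep1, ep1, em1, em1, ep1, ep1, em1, em1, ep1, em1, em1, ep1, ep1, ep1, ep1, ep1, ep1, em1, ep1, ep1, ep1, ep1, ep1, ep3],
   [ep2, ep2, ep0, ep0, ep2, ep0, ep2, ep0, ep0, ep2, ep0, ep0, ep2, ep0, ep0, ep0, ep0, ep2, ep0, ep0, ep0, ep0, ep0, ep2],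
   [ep2, ep2, ep2, ep2, ep0, ep2, ep0, ep0, ep0, ep0, ep0, ep0, ep0, ep0, ep2, ep0, ep0, ep2, ep0, ep0, ep0, ep0, ep0, ep2],
   [ep1, ep1, ep1, ep1, em1, em1, ep1, em1, ep1, ep1, em1, ep1, em1, ep1, em1, ep1, ep1, em1, ep1, ep1, ep1, ep1, ep1, ep3],
   [ep1, ep1, em1, ep1, em1, em1, ep1, ep1, ep1, em1, ep1, ep1, ep1, em1, ep1, em1, ep1, em1, ep1, ep1, ep1, ep1, ep1, ep3],
   [ep1, ep1, ep1, em1, ep1, ep1, em1, ep1, ep1, ep1, ep1, ep1, em1, em1, em1, em1, ep1, em1, ep1, ep1, ep1, ep1, ep1, ep3],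
   [ep1, ep1, ep1, ep1, ep1, ep1, em1, ep1, em1, ep1, em1, em1, em1, ep1, ep1, ep1, em1, em1, ep1, ep1, ep1, ep1, ep1, ep3],
   [ep1, ep1, ep1, em1, em1, ep1, ep1, em1, em1, ep1, em1, em1, ep1, ep1, ep1, ep1, ep1, ep1, em1, ep1, ep1, ep1, ep1, ep3],
   [ep2, ep2, ep2, ep0, ep0, ep0, ep0, ep0, ep2, ep0, ep0, ep2, ep2, ep0, ep0, ep0, ep0, ep0, ep2, ep0, ep0, ep0, ep0, ep2],
   [ep1, ep1, ep1, ep1, ep1, em1, em1, ep1, em1, ep1, ep1, em1, ep1, em1, ep1, em1, ep1, ep1, em1, ep1, ep1, ep1, ep1, ep3],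
   [ep2, ep2, ep0, ep2, ep0, ep0, ep0, ep2, ep0, ep2, ep0, ep0, ep0, ep0, ep0, ep0, ep2, ep0, ep2, ep0, ep0, ep0, ep0, ep2],
   [ep1, ep1, em1, ep1, em1, ep1, ep1, ep1, ep1, em1, em1, ep1, em1, ep1, ep1, ep1, em1, ep1, em1, ep1, ep1, ep1, ep1, ep3],
   [ep1, ep1, ep1, em1, ep1, em1, em1, ep1, ep1, ep1, em1, ep1, ep1, ep1, em1, ep1, em1, ep1, em1, ep1, ep1, ep1, ep1, ep3],
   [ep1, ep1, ep1, ep1, em1, ep1, ep1, em1, ep1, ep1, ep1, ep1, ep1, em1, em1, em1, em1, ep1, em1, ep1, ep1, ep1, ep1, ep3],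
   [ep1, ep1, ep1, ep1, ep1, ep1, ep1, em1, ep1, em1, ep1, em1, em1, em1, ep1, ep1, ep1, em1, em1, ep1, ep1, ep1, ep1, ep3],
   [ep1, ep1, em1, ep1, ep1, ep1, ep1, ep1, ep1, ep1, em1, em1, ep1, ep1, em1, em1, ep1, em1, em1, ep1, ep1, ep1, ep1, ep3],
   [ep1, ep1, em1, em1, ep1, ep1, ep1, ep1, em1, ep1, ep1, ep1, ep1, em1, ep1, ep1, em1, em1, em1, ep1, ep1, ep1, ep1, ep3],
   [ep1, ep1, ep1, ep1, em1, em1, ep1, ep1, em1, em1, ep1, em1, em1, ep1, ep1, ep1, ep1, ep1, ep1, em1, ep1, ep1, ep1, ep3],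
   [ep1, ep1, em1, em1, ep1, ep1, em1, ep1, em1, ep1, ep1, em1, ep1, ep1, em1, ep1, ep1, ep1, ep1, em1, ep1, ep1, ep1, ep3],
   [ep1, ep1, em1, em1, em1, em1, ep1, em1, ep1, ep1, ep1, ep1, ep1, ep1, ep1, ep1, em1, ep1, ep1, em1, ep1, ep1, ep1, ep3],
   [ep2, ep2, ep0, ep0, ep0, ep2, ep0, ep0, ep0, ep0, ep2, ep0, ep2, ep0, ep0, ep0, ep2, ep0, ep0, ep2, ep0, ep0, ep0, ep2],
   [ep1, ep1, ep1, ep1, ep1, ep1, em1, em1, ep1, em1, ep1, ep1, em1, ep1, em1, ep1, em1, ep1, ep1, em1, ep1, ep1, ep1, ep3],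
   [ep1, ep1, em1, ep1, ep1, ep1, em1, ep1, ep1, ep1, em1, ep1, ep1, em1, ep1, em1, em1, ep1, ep1, em1, ep1, ep1, ep1, ep3],
   [ep1, ep1, ep1, em1, ep1, em1, ep1, ep1, ep1, ep1, em1, em1, ep1, em1, ep1, ep1, ep1, em1, ep1, em1, ep1, ep1, ep1, ep3],
   [ep1, ep1, ep1, ep1, em1, ep1, em1, em1, ep1, ep1, ep1, em1, ep1, ep1, ep1, em1, ep1, em1, ep1, em1, ep1, ep1, ep1, ep3],
   [ep1, ep1, ep1, ep1, ep1, em1, ep1, ep1, em1, ep1, ep1, ep1, ep1, ep1, em1, em1, em1, em1, ep1, em1, ep1, ep1, ep1, ep3],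
   [ep1, ep1, ep1, ep1, ep1, ep1, ep1, ep1, em1, ep1, em1, ep1, em1, em1, em1, ep1, ep1, ep1, em1, em1, ep1, ep1, ep1, ep3],
   [ep1, ep1, em1, ep1, ep1, ep1, ep1, em1, em1, em1, ep1, ep1, ep1, ep1, ep1, em1, ep1, ep1, em1, em1, ep1, ep1, ep1, ep3],
   [ep1, ep1, ep1, em1, ep1, ep1, ep1, ep1, ep1, ep1, ep1, em1, em1, ep1, ep1, em1, em1, ep1, em1, em1, ep1, ep1, ep1, ep3],
   [ep1, ep1, em1, ep1, ep1, em1, em1, ep1, ep1, ep1, ep1, ep1, em1, ep1, ep1, ep1, ep1, em1, em1, em1, ep1, ep1, ep1, ep3],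
   [ep1, ep1, ep1, em1, em1, ep1, ep1, ep1, ep1, em1, ep1, ep1, ep1, ep1, em1, ep1, ep1, em1, em1, em1, ep1, ep1, ep1, ep3],
   [ep2, ep2, ep0, ep0, ep0, ep0, ep0, ep0, ep0, ep0, ep0, ep0, ep0, ep2, ep0, ep2, ep0, ep2, ep2, ep2, ep0, ep0, ep0, ep2],
   [ep1, ep1, ep1, ep1, ep1, em1, em1, ep1, ep1, em1, em1, ep1, em1, em1, ep1, ep1, ep1, ep1, ep1, ep1, em1, ep1, ep1, ep3],
   [ep1, ep1, em1, em1, em1, ep1, ep1, ep1, ep1, ep1, em1, ep1, ep1, em1, em1, ep1, ep1, ep1, ep1, ep1, em1, ep1, ep1, ep3],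
   [ep2, ep2, ep0, ep0, ep0, ep0, ep0, ep2, ep0, ep0, ep0, ep0, ep2, ep2, ep2, ep0, ep0, ep0, ep0, ep0, ep2, ep0, ep0, ep2],
   [ep2, ep2, ep2, ep0, ep0, ep0, ep0, ep0, ep0, ep2, ep2, ep0, ep0, ep0, ep0, ep2, ep0, ep0, ep0, ep0, ep2, ep0, ep0, ep2],
   [ep1, ep1, ep1, em1, em1, ep1, ep1, em1, ep1, em1, ep1, ep1, em1, ep1, ep1, em1, ep1, ep1, ep1, ep1, em1, ep1, ep1, ep3],
   [ep1, ep1, em1, ep1, ep1, em1, em1, em1, ep1, ep1, ep1, ep1, ep1, ep1, em1, em1, ep1, ep1, ep1, ep1, em1, ep1, ep1, ep3],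
   [ep1, ep1, em1, ep1, em1, ep1, ep1, ep1, em1, ep1, ep1, em1, ep1, ep1, ep1, em1, em1, ep1, ep1, ep1, em1, ep1, ep1, ep3],
   [ep1, ep1, ep1, em1, em1, em1, em1, ep1, em1, ep1, ep1, ep1, ep1, ep1, ep1, ep1, ep1, em1, ep1, ep1, em1, ep1, ep1, ep3],
   [ep1, ep1, em1, ep1, ep1, ep1, ep1, ep1, em1, em1, ep1, ep1, em1, ep1, em1, ep1, ep1, em1, ep1, ep1, em1, ep1, ep1, ep3],
   [ep1, ep1, ep1, ep1, ep1, ep1, ep1, em1, em1, ep1, em1, ep1, ep1, em1, ep1, em1, ep1, em1, ep1, ep1, em1, ep1, ep1, ep3],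
   [ep1, ep1, ep1, em1, ep1, ep1, ep1, em1, ep1, ep1, ep1, em1, ep1, ep1, em1, ep1, em1, em1, ep1, ep1, em1, ep1, ep1, ep3],
   [ep1, ep1, em1, em1, ep1, em1, ep1, ep1, ep1, em1, ep1, em1, ep1, ep1, ep1, ep1, ep1, ep1, em1, ep1, em1, ep1, ep1, ep3],
   [ep1, ep1, ep1, ep1, em1, ep1, em1, ep1, ep1, ep1, ep1, em1, em1, ep1, em1, ep1, ep1, ep1, em1, ep1, em1, ep1, ep1, ep3],
   [ep1, ep1, ep1, ep1, ep1, em1, ep1, em1, em1, ep1, ep1, ep1, em1, ep1, ep1, ep1, em1, ep1, em1, ep1, em1, ep1, ep1, ep3],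
   [ep1, ep1, ep1, ep1, ep1, ep1, em1, ep1, ep1, em1, ep1, ep1, ep1, ep1, ep1, em1, em1, em1, em1, ep1, em1, ep1, ep1, ep3],
   [ep2, ep2, ep0, ep2, ep2, ep0, ep0, ep0, ep0, ep0, ep0, ep2, ep0, ep0, ep0, ep0, ep0, ep0, ep0, ep2, ep2, ep0, ep0, ep2],
   [ep1, ep1, em1, ep1, ep1, ep1, ep1, em1, ep1, ep1, em1, em1, em1, ep1, ep1, ep1, ep1, ep1, ep1, em1, em1, ep1, ep1, ep3],
   [ep1, ep1, ep1, ep1, ep1, ep1, ep1, ep1, ep1, em1, ep1, em1, ep1, em1, em1, em1, ep1, ep1, ep1, em1, em1, ep1, ep1, ep3],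
   [ep1, ep1, ep1, em1, ep1, ep1, ep1, ep1, em1, em1, em1, ep1, ep1, ep1, ep1, ep1, em1, ep1, ep1, em1, em1, ep1, ep1, ep3],
   [ep1, ep1, ep1, ep1, em1, ep1, ep1, ep1, ep1, ep1, ep1, ep1, em1, em1, ep1, ep1, em1, em1, ep1, em1, em1, ep1, ep1, ep3],
   [ep1, ep1, ep1, em1, ep1, ep1, em1, em1, ep1, ep1, ep1, ep1, ep1, em1, ep1, ep1, ep1, ep1, em1, em1, em1, ep1, ep1, ep3],
   [ep1, ep1, ep1, ep1, em1, em1, ep1, ep1, ep1, ep1, em1, ep1, ep1, ep1, ep1, em1, ep1, ep1, em1, em1, em1, ep1, ep1, ep3],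
   [ep2, ep2, ep0, ep0, ep0, ep2, ep0, ep0, ep0, ep2, ep0, ep2, ep0, ep2, ep0, ep0, ep0, ep0, ep0, ep0, ep0, ep2, ep0, ep2],
   [ep1, ep1, ep1, ep1, ep1, ep1, em1, em1, ep1, ep1, em1, em1, ep1, em1, em1, ep1, ep1, ep1, ep1, ep1, ep1, em1, ep1, ep3],
   [ep1, ep1, em1, ep1, ep1, ep1, em1, ep1, ep1, em1, ep1, em1, em1, ep1, ep1, em1, ep1, ep1, ep1, ep1, ep1, em1, ep1, ep3],
   [ep1, ep1, ep1, em1, em1, em1, ep1, ep1, ep1, ep1, ep1, em1, ep1, ep1, em1, em1, ep1, ep1, ep1, ep1, ep1, em1, ep1, ep3],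
   [ep1, ep1, ep1, ep1, em1, em1, ep1, ep1, em1, ep1, em1, ep1, ep1, em1, ep1, ep1, em1, ep1, ep1, ep1, ep1, em1, ep1, ep3],
   [ep1, ep1, ep1, em1, ep1, ep1, em1, em1, em1, ep1, ep1, ep1, ep1, ep1, ep1, em1, em1, ep1, ep1, ep1, ep1, em1, ep1, ep3],
   [ep1, ep1, em1, ep1, ep1, em1, ep1, em1, em1, ep1, ep1, em1, ep1, ep1, ep1, ep1, ep1, em1, ep1, ep1, ep1, em1, ep1, ep3],
   [ep1, ep1, ep1, em1, ep1, em1, ep1, ep1, ep1, em1, ep1, ep1, em1, ep1, ep1, ep1, em1, em1, ep1, ep1, ep1, em1, ep1, ep3],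
   [ep1, ep1, em1, ep1, em1, ep1, em1, ep1, ep1, ep1, ep1, ep1, ep1, ep1, em1, ep1, em1, em1, ep1, ep1, ep1, em1, ep1, ep3],
   [ep1, ep1, ep1, ep1, em1, em1, em1, em1, ep1, em1, ep1, ep1, ep1, ep1, ep1, ep1, ep1, ep1, em1, ep1, ep1, em1, ep1, ep3],
   [ep2, ep2, ep0, ep0, ep2, ep0, ep0, ep0, ep0, ep0, ep2, ep0, ep0, ep0, ep2, ep0, ep0, ep0, ep2, ep0, ep0, ep2, ep0, ep2],
   [ep1, ep1, em1, em1, ep1, ep1, ep1, em1, ep1, ep1, ep1, ep1, em1, ep1, em1, ep1, ep1, ep1, em1, ep1, ep1, em1, ep1, ep3],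
   [ep1, ep1, ep1, em1, ep1, ep1, ep1, ep1, ep1, em1, em1, ep1, ep1, em1, ep1, em1, ep1, ep1, em1, ep1, ep1, em1, ep1, ep3],
   [ep1, ep1, ep1, ep1, ep1, ep1, ep1, ep1, em1, em1, ep1, em1, ep1, ep1, em1, ep1, em1, ep1, em1, ep1, ep1, em1, ep1, ep3],
   [ep1, ep1, ep1, ep1, em1, ep1, ep1, ep1, em1, ep1, ep1, ep1, em1, ep1, ep1, em1, ep1, em1, em1, ep1, ep1, em1, ep1, ep3],
   [ep2, ep2, ep2, ep0, ep0, ep0, ep2, ep2, ep0, ep0, ep0, ep0, ep0, ep0, ep0, ep0, ep0, ep0, ep0, ep2, ep0, ep2, ep0, ep2],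
   [ep1, ep1, ep1, em1, em1, ep1, em1, ep1, ep1, ep1, em1, ep1, em1, ep1, ep1, ep1, ep1, ep1, ep1, em1, ep1, em1, ep1, ep3],
   [ep1, ep1, em1, ep1, ep1, em1, ep1, ep1, ep1, em1, em1, ep1, ep1, ep1, em1, ep1, ep1, ep1, ep1, em1, ep1, em1, ep1, ep3],
   [ep1, ep1, ep1, ep1, ep1, em1, ep1, em1, ep1, ep1, ep1, ep1, em1, em1, ep1, em1, ep1, ep1, ep1, em1, ep1, em1, ep1, ep3],
   [ep1, ep1, ep1, ep1, ep1, ep1, em1, ep1, em1, em1, ep1, ep1, ep1, em1, ep1, ep1, ep1, em1, ep1, em1, ep1, em1, ep1, ep3],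
   [ep1, ep1, em1, ep1, em1, ep1, ep1, ep1, ep1, ep1, ep1, em1, ep1, em1, ep1, ep1, ep1, ep1, em1, em1, ep1, em1, ep1, ep3],
   [ep1, ep1, ep1, ep1, ep1, ep1, ep1, em1, ep1, ep1, em1, ep1, ep1, ep1, ep1, ep1, em1, em1, em1, em1, ep1, em1, ep1, ep3],
   [ep1, ep1, ep1, em1, ep1, ep1, ep1, ep1, em1, ep1, ep1, em1, em1, em1, ep1, ep1, ep1, ep1, ep1, ep1, em1, em1, ep1, ep3],
   [ep1, ep1, em1, ep1, ep1, ep1, ep1, em1, ep1, em1, ep1, ep1, ep1, em1, ep1, ep1, em1, ep1, ep1, ep1, em1, em1, ep1, ep3],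
   [ep1, ep1, ep1, ep1, ep1, ep1, ep1, ep1, ep1, ep1, em1, ep1, em1, ep1, em1, em1, em1, ep1, ep1, ep1, em1, em1, ep1, ep3],
   [ep1, ep1, ep1, ep1, em1, ep1, ep1, ep1, ep1, em1, em1, em1, ep1, ep1, ep1, ep1, ep1, em1, ep1, ep1, em1, em1, ep1, ep3],
   [ep2, ep2, ep0, ep0, ep0, ep0, ep0, ep0, ep2, ep0, ep0, ep0, ep0, ep0, ep0, ep0, ep2, ep2, ep0, ep0, ep2, ep2, ep0, ep2],
   [ep1, ep1, em1, ep1, ep1, ep1, em1, ep1, em1, ep1, em1, ep1, ep1, ep1, ep1, ep1, ep1, ep1, em1, ep1, em1, em1, ep1, ep3],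
   [ep1, ep1, ep1, ep1, ep1, em1, ep1, ep1, ep1, ep1, ep1, ep1, ep1, em1, em1, ep1, ep1, em1, em1, ep1, em1, em1, ep1, ep3],
   [ep1, ep1, ep1, ep1, em1, ep1, ep1, em1, em1, ep1, ep1, ep1, ep1, ep1, em1, ep1, ep1, ep1, ep1, em1, em1, em1, ep1, ep3],
   [ep1, ep1, ep1, ep1, ep1, em1, em1, ep1, ep1, ep1, ep1, em1, ep1, ep1, ep1, ep1, em1, ep1, ep1, em1, em1, em1, ep1, ep3],
   [ep1, ep1, em1, em1, ep1, ep1, ep1, ep1, ep1, ep1, ep1, ep1, ep1, ep1, ep1, em1, ep1, em1, ep1, em1, em1, em1, ep1, ep3],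
   [ep1, ep1, em1, ep1, ep1, ep1, ep1, ep1, em1, em1, em1, em1, ep1, em1, ep1, ep1, ep1, ep1, ep1, ep1, ep1, ep1, em1, ep3],
   [ep1, ep1, ep1, ep1, ep1, ep1, ep1, em1, em1, ep1, ep1, em1, em1, ep1, em1, em1, ep1, ep1, ep1, ep1, ep1, ep1, em1, ep3],
   [ep2, ep2, ep2, ep0, ep2, ep0, ep0, ep0, ep0, ep0, ep0, ep0, ep0, ep2, ep0, ep0, ep2, ep0, ep0, ep0, ep0, ep0, ep2, ep2],
   [ep1, ep1, ep1, em1, ep1, ep1, ep1, em1, ep1, ep1, em1, ep1, em1, em1, ep1, ep1, em1, ep1, ep1, ep1, ep1, ep1, em1, ep3],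
   [ep1, ep1, ep1, ep1, em1, em1, em1, ep1, ep1, ep1, ep1, ep1, em1, ep1, ep1, em1, em1, ep1, ep1, ep1, ep1, ep1, em1, ep3],
   [ep1, ep1, em1, em1, ep1, ep1, ep1, ep1, ep1, em1, ep1, ep1, ep1, ep1, em1, em1, em1, ep1, ep1, ep1, ep1, ep1, em1, ep3],
   [ep2, ep2, ep0, ep0, ep0, ep0, ep0, ep2, ep0, ep0, ep2, ep2, ep0, ep0, ep0, ep0, ep0, ep2, ep0, ep0, ep0, ep0, ep2, ep2],
   [ep1, ep1, em1, em1, em1, ep1, ep1, ep1, ep1, ep1, ep1, em1, em1, ep1, ep1, ep1, ep1, em1, ep1, ep1, ep1, ep1, em1, ep3],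
   [ep1, ep1, ep1, ep1, ep1, em1, em1, ep1, ep1, em1, ep1, em1, ep1, ep1, em1, ep1, ep1, em1, ep1, ep1, ep1, ep1, em1, ep3],
   [ep1, ep1, ep1, ep1, em1, ep1, ep1, em1, em1, em1, ep1, ep1, ep1, ep1, ep1, ep1, em1, em1, ep1, ep1, ep1, ep1, em1, ep3],
   [ep1, ep1, ep1, em1, ep1, ep1, em1, ep1, em1, em1, ep1, ep1, em1, ep1, ep1, ep1, ep1, ep1, em1, ep1, ep1, ep1, em1, ep3],
   [ep1, ep1, em1, ep1, em1, em1, ep1, ep1, em1, ep1, ep1, ep1, ep1, ep1, em1, ep1, ep1, ep1, em1, ep1, ep1, ep1, em1, ep3],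
   [ep1, ep1, em1, ep1, ep1, ep1, em1, em1, ep1, ep1, ep1, em1, ep1, ep1, ep1, ep1, em1, ep1, em1, ep1, ep1, ep1, em1, ep3],
   [ep1, ep1, ep1, ep1, em1, ep1, em1, ep1, ep1, ep1, em1, ep1, ep1, em1, ep1, ep1, ep1, em1, em1, ep1, ep1, ep1, em1, ep3],
   [ep1, ep1, ep1, em1, ep1, em1, ep1, em1, ep1, ep1, ep1, ep1, ep1, ep1, ep1, em1, ep1, em1, em1, ep1, ep1, ep1, em1, ep3],
   [ep1, ep1, ep1, ep1, ep1, em1, em1, em1, em1, ep1, em1, ep1, ep1, ep1, ep1, ep1, ep1, ep1, ep1, em1, ep1, ep1, em1, ep3],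
   [ep2, ep2, ep0, ep0, ep0, ep0, ep0, ep0, ep2, ep2, ep0, ep0, ep0, ep0, ep2, ep0, ep0, ep0, ep0, ep2, ep0, ep0, ep2, ep2],
   [ep1, ep1, ep1, em1, em1, ep1, ep1, ep1, em1, ep1, ep1, ep1, ep1, em1, ep1, em1, ep1, ep1, ep1, em1, ep1, ep1, em1, ep3],
   [ep1, ep1, ep1, ep1, em1, ep1, ep1, ep1, ep1, ep1, em1, em1, ep1, ep1, em1, ep1, em1, ep1, ep1, em1, ep1, ep1, em1, ep3],
   [ep1, ep1, em1, ep1, ep1, ep1, ep1, em1, ep1, ep1, ep1, ep1, ep1, em1, em1, ep1, ep1, em1, ep1, em1, ep1, ep1, em1, ep3],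
   [ep1, ep1, ep1, ep1, ep1, ep1, ep1, ep1, ep1, em1, em1, ep1, em1, ep1, ep1, em1, ep1, em1, ep1, em1, ep1, ep1, em1, ep3],
   [ep1, ep1, ep1, ep1, ep1, em1, ep1, ep1, ep1, em1, ep1, ep1, ep1, em1, ep1, ep1, em1, ep1, em1, em1, ep1, ep1, em1, ep3],
   [ep1, ep1, ep1, ep1, em1, em1, ep1, em1, ep1, ep1, ep1, em1, ep1, em1, ep1, ep1, ep1, ep1, ep1, ep1, em1, ep1, em1, ep3],
   [ep1, ep1, ep1, em1, ep1, ep1, em1, ep1, ep1, ep1, em1, em1, ep1, ep1, ep1, em1, ep1, ep1, ep1, ep1, em1, ep1, em1, ep3],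
   [ep1, ep1, ep1, ep1, ep1, ep1, em1, ep1, em1, ep1, ep1, ep1, ep1, em1, em1, ep1, em1, ep1, ep1, ep1, em1, ep1, em1, ep3],
   [ep1, ep1, em1, ep1, ep1, em1, ep1, ep1, ep1, ep1, em1, ep1, ep1, ep1, ep1, ep1, em1, em1, ep1, ep1, em1, ep1, em1, ep3],
   [ep2, ep2, ep0, ep0, ep0, ep2, ep2, ep0, ep0, ep0, ep0, ep0, ep0, ep0, ep0, ep0, ep0, ep0, ep2, ep0, ep2, ep0, ep2, ep2],
   [ep1, ep1, ep1, ep1, ep1, ep1, ep1, em1, ep1, em1, em1, ep1, ep1, ep1, em1, ep1, ep1, ep1, em1, ep1, em1, ep1, em1, ep3],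
   [ep1, ep1, em1, ep1, ep1, ep1, ep1, ep1, ep1, ep1, ep1, ep1, em1, em1, ep1, em1, ep1, ep1, em1, ep1, em1, ep1, em1, ep3],
   [ep1, ep1, em1, ep1, em1, ep1, em1, ep1, ep1, em1, ep1, ep1, ep1, ep1, ep1, ep1, ep1, ep1, ep1, em1, em1, ep1, em1, ep3],
   [ep1, ep1, ep1, em1, ep1, em1, ep1, ep1, ep1, ep1, ep1, ep1, em1, ep1, em1, ep1, ep1, ep1, ep1, em1, em1, ep1, em1, ep3],
   [ep1, ep1, ep1, ep1, ep1, ep1, ep1, ep1, em1, ep1, ep1, em1, ep1, ep1, ep1, ep1, ep1, em1, em1, em1, em1, ep1, em1, ep3],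
   [ep1, ep1, em1, em1, ep1, em1, em1, ep1, ep1, ep1, ep1, ep1, ep1, em1, ep1, ep1, ep1, ep1, ep1, ep1, ep1, em1, em1, ep3],
   [ep1, ep1, ep1, ep1, em1, ep1, ep1, ep1, ep1, em1, ep1, ep1, em1, em1, em1, ep1, ep1, ep1, ep1, ep1, ep1, em1, em1, ep3],
   [ep1, ep1, em1, ep1, em1, ep1, ep1, em1, ep1, ep1, em1, ep1, ep1, ep1, ep1, em1, ep1, ep1, ep1, ep1, ep1, em1, em1, ep3],
   [ep2, ep2, ep0, ep2, ep0, ep0, ep0, ep0, ep0, ep0, ep0, ep0, ep2, ep0, ep0, ep2, ep0, ep0, ep0, ep0, ep0, ep2, ep2, ep2],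
   [ep1, ep1, ep1, em1, ep1, ep1, ep1, ep1, em1, ep1, em1, ep1, ep1, ep1, em1, ep1, ep1, em1, ep1, ep1, ep1, em1, em1, ep3],
   [ep1, ep1, ep1, ep1, ep1, ep1, ep1, ep1, ep1, ep1, ep1, em1, ep1, em1, ep1, em1, em1, em1, ep1, ep1, ep1, em1, em1, ep3],
   [ep1, ep1, ep1, ep1, ep1, em1, ep1, ep1, ep1, ep1, em1, em1, em1, ep1, ep1, ep1, ep1, ep1, em1, ep1, ep1, em1, em1, ep3],
   [ep1, ep1, ep1, em1, ep1, ep1, ep1, em1, ep1, em1, ep1, em1, ep1, ep1, ep1, ep1, ep1, ep1, ep1, em1, ep1, em1, em1, ep3],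
   [ep1, ep1, em1, ep1, ep1, ep1, ep1, ep1, em1, ep1, ep1, ep1, em1, ep1, ep1, ep1, em1, ep1, ep1, em1, ep1, em1, em1, ep3],
   [ep1, ep1, ep1, ep1, ep1, ep1, em1, ep1, ep1, ep1, ep1, ep1, ep1, ep1, em1, em1, ep1, ep1, em1, em1, ep1, em1, em1, ep3],
   [ep1, ep1, ep1, ep1, ep1, em1, ep1, ep1, em1, em1, ep1, ep1, ep1, ep1, ep1, em1, ep1, ep1, ep1, ep1, em1, em1, em1, ep3],
   [ep1, ep1, ep1, ep1, ep1, ep1, em1, em1, ep1, ep1, ep1, ep1, em1, ep1, ep1, ep1, ep1, em1, ep1, ep1, em1, em1, em1, ep3],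
   [ep1, ep1, ep1, em1, em1, ep1, ep1, ep1, ep1, ep1, ep1, ep1, ep1, ep1, ep1, ep1, em1, ep1, em1, ep1, em1, em1, em1, ep3]]

end Cfsg.Agent.McLRankThree
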